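import Cfsg.Agent.Lib.ChevStructure.NormalForm

/-!
Reflections in arbitrary roots and the decomposition of an involution of W as a product of reflections
in mutually orthogonal roots.
-/

set_option autoImplicit false
set_option linter.unusedSectionVars false

namespace Cfsg.Agent.Lib.OddInvolutions

open Cfsg.Lie Cfsg.Agent.Lib.ChevStructure
open scoped MatrixGroups Matrix

variable {D : ChevalleyDatum} (C : Core D)

/-- The pairing with the coroot of `r`, as a functional on coefficient vectors. -/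
def prV (r : Rt D) : (Fin D.rank → ℤ) →+ ℤ where
  toFun x := ∑ m, x m * pr D r (C.p m)
  map_zero' := by simp
  map_add' x y := by simp [add_mul, Finset.sum_add_distrib]

/-- The linear map of a permutation of the roots. -/
def linV (σ : Equiv.Perm (Rt D)) : (Fin D.rank → ℤ) →+ (Fin D.rank → ℤ) where
  toFun x m := ∑ k, x k * C.v (σ (C.p k)) m
  map_zero' := by funext m; simp
  map_add' x y := by funext m; simp [add_mul, Finset.sum_add_distrib]

theorem prV_v (r s : Rt D) : prV C r (C.v s) = pr D r s := by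
  show ∑ m, C.v s m * pr D r (C.p m) = _
  simp only [pr, Finset.mul_sum]
  rw [Finset.sum_comm]
  refine Finset.sum_congr rfl fun j _ => ?_
  rw [C.A_lin j s, Finset.mul_sum]
  exact Finset.sum_congr rfl fun m _ => by ring

theorem linV_v {σ : Equiv.Perm (Rt D)} (hσ : σ ∈ C.WG) (r : Rt D) : linV C σ (C.v r) = C.v (σ r) := by
  obtain ⟨L, rfl⟩ := C.mem_WG_iff.1 hσ
  exact funext fun m => (C.pprod_v L r m).symm

theorem WG_pr {σ : Equiv.Perm (Rt D)} (hσ : σ ∈ C.WG) (r s : Rt D) : pr D (σ r) (σ s) = pr D r s := by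
  obtain ⟨L, rfl⟩ := C.mem_WG_iff.1 hσ
  exact C.pprod_pr L r s

theorem WG_rev' {σ : Equiv.Perm (Rt D)} (hσ : σ ∈ C.WG) (r : Rt D) : σ r.rev = (σ r).rev :=
  C.WG_rev ⟨σ, hσ⟩ r

include C in
theorem pr_rev_right (r s : Rt D) : pr D r s.rev = - pr D r s := by
  rw [← prV_v C, C.v_rev, map_neg, prV_v C]

theorem sref_mem (i : Fin D.rank) : C.sref i ∈ C.WG := Subgroup.subset_closure ⟨i, rfl⟩

/-- The roots negated by a permutation. -/
def Psi (σ : Equiv.Perm (Rt D)) : Set (Rt D) := {r | σ r = r.rev}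

theorem pr_of_mem_Psi {σ : Equiv.Perm (Rt D)} (hσ : σ ∈ C.WG) (h2 : σ * σ = 1) {β : Rt D}
    (hβ : β ∈ Psi σ) (r : Rt D) : pr D β (σ r) = - pr D β r := by
  have e : σ (σ r) = r := by rw [← Equiv.Perm.mul_apply, h2, Equiv.Perm.one_apply]
  have h := WG_pr C hσ β (σ r)
  rw [e, show σ β = β.rev from hβ, C.pr_rev] at h
  omega

/-- Roots negated by an involution, in combination, give a root negated by it. -/
theorem mem_Psi_of_combo {σ : Equiv.Perm (Rt D)} (hσ : σ ∈ C.WG) {β γ q : Rt D} (hβ : β ∈ Psi σ)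
    (hγ : γ ∈ Psi σ) {i j : ℤ} (hv : C.v q = i • C.v β + j • C.v γ) : q ∈ Psi σ := by
  refine C.v_inj ?_
  rw [← linV_v C hσ, hv, map_add, map_zsmul, map_zsmul, linV_v C hσ, linV_v C hσ,
    show σ β = β.rev from hβ, show σ γ = γ.rev from hγ, C.v_rev, C.v_rev, C.v_rev, hv]
  module

/-- `σ` is the reflection in `β`. -/
def IsRefl (β : Rt D) (σ : Equiv.Perm (Rt D)) : Prop :=
  ∀ r, C.v (σ r) = C.v r - pr D β r • C.v β

theorem isRefl_self {β : Rt D} {σ : Equiv.Perm (Rt D)} (h : IsRefl C β σ) : σ β = β.rev := by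
  refine C.v_inj ?_
  rw [h, C.pr_self, C.v_rev]
  module

theorem acts_nR {F : Type*} [Field F] (r : Rt D) :
    ∀ u : Fˣ, ∃ σ ∈ C.WG, C.Acts (C.nR F r u) σ ∧ IsRefl C r σ := by
  refine C.ind (fun r => ∀ u : Fˣ, ∃ σ ∈ C.WG, C.Acts (C.nR F r u) σ ∧ IsRefl C r σ) ?_ ?_ r
  · intro i u
    obtain ⟨c, hc⟩ := C.nR_p F i u
    refine ⟨C.sref i, sref_mem C i, ?_, fun r => ?_⟩
    · have h := C.acts_HT_wprod F c [i]
      rw [Core.pprod, List.map_singleton, List.prod_singleton, Core.wprod, List.map_singleton,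
        List.prod_singleton, ← hc] at h
      exact h
    · rw [C.sref_apply, C.v_w, C.pr_p, C.v_p]
  · intro i r ih u
    obtain ⟨σ, hσ, ha, hr⟩ := ih (C.ηU F i r * u)
    have hη : C.ηU F i r * C.ηU F i r = 1 := Units.ext (C.ηU F i r).val_inv
    have hn : C.nR F (C.w i r) u = C.P F i * C.nR F r (C.ηU F i r * u) * (C.P F i)⁻¹ := by
      rw [C.P_nR_conj, ← mul_assoc, hη, one_mul]
    have hP : C.Acts (C.P F i) (C.sref i) := by
      simpa [Core.pprod, Core.wprod] using C.acts_wprod F [i]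
    have hinv : (C.sref i)⁻¹ = C.sref i := inv_eq_of_mul_eq_one_right (C.sref_mul_self i)
    refine ⟨C.sref i * σ * C.sref i, mul_mem (mul_mem (sref_mem C i) hσ) (sref_mem C i), ?_, fun s => ?_⟩
    · have h := C.acts_mul F (C.acts_mul F hP ha) (C.acts_inv F hP)
      rw [← hn, hinv] at h
      exact h
    · have h1 : pr D r (C.w i s) = pr D (C.w i r) s := by
        rw [← C.pr_w i r (C.w i s), C.w_w]
      have h3 : A D i (σ (C.w i s)) = A D i (C.w i s) - pr D r (C.w i s) * A D i r := by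
        rw [← C.pr_p, ← prV_v C, hr, map_sub, map_zsmul, prV_v C, prV_v C, C.pr_p, C.pr_p, smul_eq_mul]
      have h4 : A D i (C.w i s) = - A D i s := by
        rw [C.A_w, C.A_p]; ring
      rw [Equiv.Perm.mul_apply, Equiv.Perm.mul_apply, C.sref_apply, C.sref_apply, C.v_w, hr, h3, h1, C.v_w,
        C.v_w, h4]
      module

theorem len_inv {σ : Equiv.Perm (Rt D)} (hσ : σ ∈ C.WG) : C.len σ⁻¹ = C.len σ := by
  have e : C.inv' σ⁻¹ = (fun r => (σ r).rev) '' C.inv' σ := by
    ext r
    constructor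
    · rintro ⟨hp, hn⟩
      refine ⟨(σ⁻¹ r).rev, ⟨C.rev_pos hn, ?_⟩, ?_⟩
      · rw [WG_rev' C hσ]; simpa using C.rev_neg hp
      · simp only
        rw [WG_rev' C hσ]; simp [C.rev_rev]
    · rintro ⟨x, ⟨hp, hn⟩, rfl⟩
      refine ⟨C.rev_pos hn, ?_⟩
      rw [WG_rev' C (inv_mem hσ)]
      simpa using C.rev_neg hp
  rw [Core.len, Core.len, e, Set.ncard_image_of_injective]
  exact Fin.rev_injective.comp σ.injective

/-- Two roots are orthogonal. -/
def Orth (a b : Rt D) : Prop := pr D a b = 0 ∧ pr D b a = 0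

/-- An involution of W is a product of reflections in mutually orthogonal roots it negates. -/
theorem exists_orth {σ : Equiv.Perm (Rt D)} (hσ : σ ∈ C.WG) (h2 : σ * σ = 1) :
    ∃ L : List (Rt D), L.Pairwise Orth ∧ (∀ β ∈ L, β ∈ Psi σ) ∧
      ∀ x, C.v (σ x) = C.v x - (L.map fun β => pr D β x • C.v β).sum := by
  suffices H : ∀ n, ∀ σ : Equiv.Perm (Rt D), C.len σ = n → σ ∈ C.WG → σ * σ = 1 →
      ∃ L : List (Rt D), L.Pairwise Orth ∧ (∀ β ∈ L, β ∈ Psi σ) ∧
        ∀ x, C.v (σ x) = C.v x - (L.map fun β => pr D β x • C.v β).sum from H _ σ rfl hσ h2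
  intro n
  induction n using Nat.strong_induction_on with
  | _ n ih =>
    intro σ hn hσ h2
    by_cases h1 : σ = 1
    · exact ⟨[], List.Pairwise.nil, by simp, by simp [h1]⟩
    obtain ⟨L0, hL0⟩ := C.mem_WG_iff.1 hσ
    obtain ⟨i, hi⟩ := C.exists_descent (hL0 ▸ h1 : C.pprod L0 ≠ 1)
    rw [hL0] at hi
    have hss := C.sref_mul_self i
    have hinv : (C.sref i)⁻¹ = C.sref i := inv_eq_of_mul_eq_one_right hss
    have hσi : σ⁻¹ = σ := inv_eq_of_mul_eq_one_right h2
    have hsσ : σ * C.sref i ∈ C.WG := mul_mem hσ (sref_mem C i)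
    have hpos : (σ * C.sref i) (C.p i) ∈ C.Pos := by
      rw [Equiv.Perm.mul_apply, C.sref_apply, C.w_p, WG_rev' C hσ]; exact C.rev_pos hi
    have hlen1 : C.len σ = C.len (σ * C.sref i) + 1 := by
      have h := C.len_mul_sref_pos (WG_rev' C hsσ) hpos
      rwa [mul_assoc, hss, mul_one] at h
    by_cases hc : σ (C.p i) = (C.p i).rev
    · -- the reflection splits off
      have hA : ∀ r, A D i (σ r) = - A D i r := by
        intro r
        rw [← C.pr_p, pr_of_mem_Psi C hσ h2 (show C.p i ∈ Psi σ from hc), C.pr_p]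
      have hcomm : C.sref i * σ = σ * C.sref i := by
        refine Equiv.ext fun r => C.v_inj ?_
        rw [Equiv.Perm.mul_apply, Equiv.Perm.mul_apply, C.sref_apply, C.sref_apply, C.v_w, hA,
          ← linV_v C hσ (C.w i r), C.v_w, map_sub, map_zsmul, ← C.v_p, linV_v C hσ, linV_v C hσ, hc,
          C.v_rev]
        module
      have h2' : σ * C.sref i * (σ * C.sref i) = 1 := by
        calc σ * C.sref i * (σ * C.sref i) = σ * (C.sref i * σ) * C.sref i := by group
          _ = σ * σ * (C.sref i * C.sref i) := by rw [hcomm]; group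
          _ = 1 := by rw [h2, hss, mul_one]
      obtain ⟨L', hP, hΨ, hv⟩ := ih _ (by omega) _ rfl hsσ h2'
      have hfix : (σ * C.sref i) (C.p i) = C.p i := by
        rw [Equiv.Perm.mul_apply, C.sref_apply, C.w_p, WG_rev' C hσ, hc, C.rev_rev]
      have horth : ∀ β ∈ L', pr D β (C.p i) = 0 ∧ pr D (C.p i) β = 0 := by
        intro β hβ
        have e1 := pr_of_mem_Psi C hsσ h2' (hΨ β hβ) (C.p i)
        rw [hfix] at e1
        have e2 := WG_pr C hsσ (C.p i) β
        rw [hfix, show (σ * C.sref i) β = β.rev from hΨ β hβ, pr_rev_right C] at e2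
        exact ⟨by omega, by omega⟩
      refine ⟨C.p i :: L', List.pairwise_cons.2 ⟨fun β hβ => ⟨(horth β hβ).2, (horth β hβ).1⟩, hP⟩, ?_, ?_⟩
      · rintro β hβ
        rcases List.mem_cons.1 hβ with rfl | hβ
        · exact hc
        · have hAβ : A D i β = 0 := by rw [← C.pr_p]; exact (horth β hβ).2
          have e : C.w i β = β := C.v_inj (by rw [C.v_w, hAβ, zero_smul, sub_zero])
          have := hΨ β hβ
          simp only [Psi, Set.mem_ofPred_eq, Equiv.Perm.mul_apply, C.sref_apply, e] at this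
          exact this
      · intro x
        have hx : σ x = (σ * C.sref i) (C.w i x) := by
          rw [Equiv.Perm.mul_apply, C.sref_apply, C.w_w]
        have hmap : (L'.map fun β => pr D β (C.w i x) • C.v β) = L'.map fun β => pr D β x • C.v β := by
          refine List.map_congr_left fun β hβ => ?_
          rw [← prV_v C, C.v_w, ← C.v_p, map_sub, map_zsmul, prV_v C, prV_v C, (horth β hβ).1, smul_zero,
            sub_zero]
        rw [hx, hv, hmap, C.v_w, List.map_cons, List.sum_cons, C.pr_p, C.v_p]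
        abel
    · -- conjugate to a shorter involution
      set τ := C.sref i * σ * C.sref i with hτ
      have hτW : τ ∈ C.WG := mul_mem (mul_mem (sref_mem C i) hσ) (sref_mem C i)
      have h2' : τ * τ = 1 := by
        calc τ * τ = C.sref i * σ * (C.sref i * C.sref i) * σ * C.sref i := by rw [hτ]; group
          _ = C.sref i * (σ * σ) * C.sref i := by rw [hss]; group
          _ = 1 := by rw [h2, mul_one, hss]
      have hne : (σ (C.p i)).rev ≠ C.p i := fun h => hc (by rw [← C.rev_rev (σ (C.p i)), h])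
      have hneg : C.w i (σ (C.p i)) ∈ C.Neg := by
        have h := C.rev_neg (C.w_pos (C.rev_pos hi) hne)
        rwa [C.w_rev, C.rev_rev] at h
      have hposτ : τ (C.p i) ∈ C.Pos := by
        rw [hτ, Equiv.Perm.mul_apply, Equiv.Perm.mul_apply, C.sref_apply, C.sref_apply, C.w_p, WG_rev' C hσ,
          C.w_rev]
        exact C.rev_pos hneg
      have hlen2 : C.len (σ * C.sref i) = C.len τ + 1 := by
        rw [← len_inv C hsσ, mul_inv_rev, hinv, hσi, ← C.len_mul_sref_pos (WG_rev' C hτW) hposτ, hτ,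
          mul_assoc (C.sref i * σ), hss, mul_one]
      obtain ⟨L', hP, hΨ, hv⟩ := ih (C.len τ) (by omega) τ rfl hτW h2'
      have hστ : ∀ x, σ x = C.w i (τ (C.w i x)) := fun x => by
        rw [hτ, Equiv.Perm.mul_apply, Equiv.Perm.mul_apply, C.sref_apply, C.sref_apply, C.w_w, C.w_w]
      refine ⟨L'.map (C.w i), List.pairwise_map.2 (hP.imp fun h => ⟨by rw [C.pr_w]; exact h.1,
        by rw [C.pr_w]; exact h.2⟩), ?_, ?_⟩
      · intro β hβ
        obtain ⟨γ, hγ, rfl⟩ := List.mem_map.1 hβ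
        show σ _ = _
        rw [hστ, C.w_w, show τ γ = γ.rev from hΨ γ hγ, C.w_rev]
      · intro x
        rw [hστ, ← C.sref_apply, ← linV_v C (sref_mem C i), hv, map_sub, linV_v C (sref_mem C i),
          map_list_sum, List.map_map, List.map_map, C.sref_apply, C.w_w]
        congr 2
        refine List.map_congr_left fun β _ => ?_
        simp only [Function.comp_apply, map_zsmul, linV_v C (sref_mem C i), C.sref_apply]
        rw [← C.pr_w i β (C.w i x), C.w_w]

end Cfsg.Agent.Lib.OddInvolutions
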