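import Cfsg.Agent.Lib.ChevStructure.RankOne
import Cfsg.Agent.Lib.OddInvolutions.Reflection
import Mathlib.NumberTheory.LegendreSymbol.QuadraticChar.Basic

/-!
An involution of N is conjugate into H (odd characteristic): conjugation inside the groups
⟨X_β, X_{-β}⟩ of the roots β it negates shrinks the set of these roots.
-/

set_option autoImplicit false
set_option linter.unusedSectionVars false

namespace Cfsg.Agent.Lib.OddInvolutions

open Cfsg.Lie Cfsg.Agent.Lib.ChevStructure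
open scoped MatrixGroups Matrix

variable {D : ChevalleyDatum} (C : Core D)

/-- What is needed from the root system. -/
structure RootOK : Prop where
  bound : ∀ r s : Rt D, pr D r s ≤ 3
  odd : ∀ r s : Rt D, s ≠ r → pr D r s = 2 → Odd (pr D s r)
  parity : ∀ L : List (Rt D), L ≠ [] → L.Pairwise Orth →
    (∃ i, Odd (L.map fun β => pr D β (C.p i)).sum) ∨
      ∃ ρ, ∃ β ∈ L, (2 : ℤ) • C.v ρ = (L.map fun γ => pr D γ ρ • C.v γ).sum ∧
        (Odd (pr D ρ β) ∨ Odd (pr D β ρ))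

section Commuting

variable {F : Type*} [Field F]

/-- `nR` of two roots commute. -/
theorem commute_X_of_no_combo {C : Core D} (H : CommOK C) {β γ : Rt D} (hne : γ ≠ β) (hne' : γ ≠ β.rev)
    (h : ∀ (q : Rt D) (i j : ℕ), 1 ≤ i → 1 ≤ j → C.v q ≠ (i : ℤ) • C.v β + (j : ℤ) • C.v γ) (t u : F) :
    Commute (C.X F γ u) (C.X F β t) := by
  have e := H.comm_X β γ hne hne' t u
  have hnil : D.commTerms β.val γ.val = [] := by
    refine List.eq_nil_iff_forall_not_mem.2 fun c hc => ?_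
    obtain ⟨q, -, hi, hj, hv⟩ := H.terms β γ hne hne' c hc
    exact h q _ _ hi hj hv
  rw [hnil, List.map_nil, List.prod_nil, mul_one] at e
  exact e

/-- The four pairs of root subgroups of ±β, ±γ commute. -/
def Comm4 (C : Core D) (F : Type*) [Field F] (β γ : Rt D) : Prop :=
  ∀ t u : F, Commute (C.X F β t) (C.X F γ u) ∧ Commute (C.X F β.rev t) (C.X F γ u) ∧
    Commute (C.X F β t) (C.X F γ.rev u) ∧ Commute (C.X F β.rev t) (C.X F γ.rev u)

theorem Comm4.symm {C : Core D} {β γ : Rt D} (h : Comm4 C F β γ) : Comm4 C F γ β := fun t u =>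
  ⟨(h u t).1.symm, (h u t).2.2.1.symm, (h u t).2.1.symm, (h u t).2.2.2.symm⟩

theorem Comm4.nR_X {C : Core D} {β γ : Rt D} (h : Comm4 C F β γ) (a : Fˣ) (t : F) :
    Commute (C.nR F β a) (C.X F γ t) ∧ Commute (C.nR F β a) (C.X F γ.rev t) := by
  unfold Core.nR
  exact ⟨((h _ t).1.mul_left (h _ t).2.1).mul_left (h _ t).1,
    ((h _ t).2.2.1.mul_left (h _ t).2.2.2).mul_left (h _ t).2.2.1⟩

theorem Comm4.nR_nR {C : Core D} {β γ : Rt D} (h : Comm4 C F β γ) (a b : Fˣ) :
    Commute (C.nR F β a) (C.nR F γ b) := by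
  have h1 := fun t => (h.nR_X a t).1
  have h2 := fun t => (h.nR_X a t).2
  show Commute _ (C.X F γ _ * C.X F γ.rev _ * C.X F γ _)
  exact ((h1 _).mul_right (h2 _)).mul_right (h1 _)

variable {C : Core D} (H : CommOK C) (K : RootOK C)
include H K

theorem comm4_of_even {σ : Equiv.Perm (Rt D)} (hσ : σ ∈ C.WG)
    (hev : ∀ a ∈ Psi σ, ∀ b ∈ Psi σ, ¬ Odd (pr D a b)) {β γ : Rt D} (hβ : β ∈ Psi σ) (hγ : γ ∈ Psi σ)
    (ho : Orth β γ) : Comm4 C F β γ := by
  have hrev : ∀ {a : Rt D}, a ∈ Psi σ → a.rev ∈ Psi σ := fun {a} ha => by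
    show σ a.rev = _
    rw [WG_rev' C hσ, show σ a = a.rev from ha]
  have key : ∀ {β γ : Rt D}, β ∈ Psi σ → γ ∈ Psi σ → Orth β γ → ∀ t u : F,
      Commute (C.X F γ u) (C.X F β t) := by
    intro β γ hβ hγ ho
    refine commute_X_of_no_combo H ?_ ?_ ?_
    · rintro rfl; have := C.pr_self γ; have := ho.1; omega
    · rintro rfl; have := C.pr_self β; have h := ho.1; rw [pr_rev_right C] at h; omega
    · intro q i j hi hj hv
      have e1 : pr D β q = 2 * i := by
        rw [← prV_v C, hv, map_add, map_zsmul, map_zsmul, prV_v C, prV_v C, ho.1, C.pr_self]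
        simp [mul_comm]
      have e2 : pr D γ q = 2 * j := by
        rw [← prV_v C, hv, map_add, map_zsmul, map_zsmul, prV_v C, prV_v C, ho.2, C.pr_self]
        simp [mul_comm]
      have b1 := K.bound β q
      have hqne : q ≠ β := by rintro rfl; have := ho.2; omega
      exact hev q (mem_Psi_of_combo C hσ hβ hγ hv) β hβ (K.odd β q hqne (by omega))
  intro t u
  refine ⟨(key hβ hγ ho u t |> fun h => (key hβ hγ ho t u).symm), ?_, ?_, ?_⟩
  · exact (key (hrev hβ) hγ ⟨by rw [C.pr_rev, ho.1]; rfl, by rw [pr_rev_right C, ho.2]; rfl⟩ t u).symm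
  · exact (key hβ (hrev hγ) ⟨by rw [pr_rev_right C, ho.1]; rfl, by rw [C.pr_rev, ho.2]; rfl⟩ t u).symm
  · exact (key (hrev hβ) (hrev hγ) ⟨by rw [C.pr_rev, pr_rev_right C, ho.1]; rfl,
      by rw [C.pr_rev, pr_rev_right C, ho.2]; rfl⟩ t u).symm

end Commuting

variable {C} {F : Type*} [Field F]

theorem nR_mem_monomial (C : Core D) (r : Rt D) : ∀ u : Fˣ, C.nR F r u ∈ D.monomialSubgroup F := by
  refine C.ind (fun r => ∀ u : Fˣ, C.nR F r u ∈ D.monomialSubgroup F) (fun i u => ?_) (fun i r ih u => ?_) r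
  · obtain ⟨c, hc⟩ := C.nR_p F i u
    rw [hc]; exact mul_mem (C.HT_mem_monomial c) (C.P_mem_monomial i)
  · have e := C.P_nR_conj F i r ((C.ηU F i r)⁻¹ * u)
    rw [mul_inv_cancel_left] at e
    rw [← e]
    exact mul_mem (mul_mem (C.P_mem_monomial i) (ih _)) (inv_mem (C.P_mem_monomial i))

/-- The product of the `n_β(1)` of a list. -/
def nProd (C : Core D) (F : Type*) [Field F] (L : List (Rt D)) : GL D.Idx F :=
  (L.map fun β => C.nR F β 1).prod

theorem nProd_spec : ∀ {L : List (Rt D)}, L.Pairwise (fun a b => Orth a b ∧ Comm4 C F a b) →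
    (∃ τ ∈ C.WG, C.Acts (nProd C F L) τ ∧
      ∀ x, C.v (τ x) = C.v x - (L.map fun β => pr D β x • C.v β).sum) ∧
    nProd C F L * nProd C F L = Core.diag F (fun s => (-1 : Fˣ) ^ (L.map fun β => pr D β s).sum) ∧
    (∀ β ∈ L, ∀ t, nProd C F L * C.X F β t * (nProd C F L)⁻¹ = C.X F β.rev (-t))
  | [], _ => by
    refine ⟨⟨1, one_mem _, ?_, by simp⟩, ?_, by simp⟩
    · simpa [nProd, C.HT_one] using C.acts_HT F 1
    · simp only [nProd, List.map_nil, List.prod_nil, mul_one, List.sum_nil, zpow_zero]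
      exact (C.diag_one F).symm
  | β :: L, h => by
    obtain ⟨hβ, hL⟩ := List.pairwise_cons.1 h
    obtain ⟨⟨τ, hτ, hτa, hτv⟩, hsq, hX⟩ := nProd_spec hL
    obtain ⟨s, hs, hsa, hsr⟩ := acts_nR C β (1 : Fˣ)
    have hcons : nProd C F (β :: L) = C.nR F β 1 * nProd C F L := by simp [nProd]
    have hc : Commute (C.nR F β 1) (nProd C F L) :=
      Commute.list_prod_right _ _ fun g hg => by
        obtain ⟨γ, hγ, rfl⟩ := List.mem_map.1 hg
        exact (hβ γ hγ).2.nR_nR 1 1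
    refine ⟨⟨s * τ, mul_mem hs hτ, ?_, fun x => ?_⟩, ?_, ?_⟩
    · rw [hcons]; exact C.acts_mul F hsa hτa
    · have e : pr D β (τ x) = pr D β x := by
        rw [← prV_v C, hτv, map_sub, prV_v C, map_list_sum, List.map_map, List.sum_eq_zero, sub_zero]
        intro z hz
        obtain ⟨γ, hγ, rfl⟩ := List.mem_map.1 hz
        rw [Function.comp_apply, map_zsmul, prV_v C, (hβ γ hγ).1.1, smul_zero]
      rw [Equiv.Perm.mul_apply, hsr, e, hτv, List.map_cons, List.sum_cons]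
      abel
    · rw [hcons]
      calc C.nR F β 1 * nProd C F L * (C.nR F β 1 * nProd C F L)
          = C.nR F β 1 * C.nR F β 1 * (nProd C F L * nProd C F L) := by
            rw [mul_assoc, ← mul_assoc (nProd C F L), ← hc.eq]; group
        _ = _ := by
            rw [hsq, C.nR_mul, Core.hD, C.diag_mul]
            congr 1
            funext x
            simp [zpow_add]
    · intro γ hγ t
      rw [hcons]
      rcases List.mem_cons.1 hγ with rfl | hγ
      · have hN : Commute (nProd C F L) (C.X F γ t) :=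
          Commute.list_prod_left _ _ fun g hg => by
            obtain ⟨δ, hδ, rfl⟩ := List.mem_map.1 hg
            exact ((hβ δ hδ).2.symm.nR_X 1 t).1
        calc C.nR F γ 1 * nProd C F L * C.X F γ t * (C.nR F γ 1 * nProd C F L)⁻¹
            = C.nR F γ 1 * (nProd C F L * C.X F γ t * (nProd C F L)⁻¹) * (C.nR F γ 1)⁻¹ := by group
          _ = _ := by rw [hN.eq, mul_inv_cancel_right, C.nR_X_conj]; simp
      · have hn : Commute (C.nR F β 1) (C.X F γ.rev (-t)) := ((hβ γ hγ).2.nR_X 1 _).2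
        calc C.nR F β 1 * nProd C F L * C.X F γ t * (C.nR F β 1 * nProd C F L)⁻¹
            = C.nR F β 1 * (nProd C F L * C.X F γ t * (nProd C F L)⁻¹) * (C.nR F β 1)⁻¹ := by group
          _ = _ := by rw [hX γ hγ, hn.eq, mul_inv_cancel_right]

theorem X_inj (C : Core D) {r : Rt D} {a b : F} (h : C.X F r a = C.X F r b) : a = b := by
  have h' : C.X F r (a + -b) = 1 := by rw [← C.X_add, ← C.X_inv, h, mul_inv_cancel]
  have := C.X_eq_one h'
  linear_combination this

theorem prod_map_zpow {M : Type*} [CommGroup M] {ι : Type*} (u : M) (f : ι → ℤ) :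
    ∀ L : List ι, (L.map fun x => u ^ f x).prod = u ^ (L.map f).sum
  | [] => by simp
  | x :: L => by simp [prod_map_zpow u f L, zpow_add]

/-- The value of a character of the root lattice on a coefficient vector. -/
def chv (c : Fin D.rank → Fˣ) : (Fin D.rank → ℤ) →+ Additive Fˣ where
  toFun x := Additive.ofMul (∏ m, c m ^ x m)
  map_zero' := by simp
  map_add' x y := by
    rw [← ofMul_mul]
    congr 1
    simp [zpow_add, Finset.prod_mul_distrib]

theorem chA_eq_chv (C : Core D) (d : Fin D.rank → Fˣ) (s : Rt D) :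
    Additive.ofMul (C.chA d s) = chv (fun m => C.chA d (C.p m)) (C.v s) := by
  rw [← C.chr_chA F d s]; rfl

section Finite

variable [Fintype F] [DecidableEq F]

/-- The quadratic character on units. -/
noncomputable def qc : Fˣ →* ℤˣ := (quadraticChar F).toUnitHom

theorem qc_cases (x : Fˣ) : qc x = 1 ∨ qc x = -1 := Int.units_eq_one_or _

theorem exists_sq_of_qc {x : Fˣ} (h : qc x = 1) : ∃ e : F, e ≠ 0 ∧ (x : F) = e * e := by
  have h' : quadraticChar F (x : F) = 1 := by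
    have := congrArg Units.val h
    simpa [qc, MulChar.coe_toUnitHom] using this
  obtain ⟨e, he⟩ := (quadraticChar_one_iff_isSquare x.ne_zero).1 h'
  exact ⟨e, fun h0 => x.ne_zero (by rw [he, h0, mul_zero]), he⟩

theorem exists_qc_neg (hF : ringChar F ≠ 2) : ∃ x : Fˣ, qc x = -1 := by
  obtain ⟨a, ha⟩ := quadraticChar_exists_neg_one' hF
  exact ⟨a, Units.ext (by simpa [qc, MulChar.coe_toUnitHom] using ha)⟩

variable (H : CommOK C)

/-- The action of an involution of N on the SL₂ of a negated root. -/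
theorem conj_sl {n : GL D.Idx F} {β : Rt D} {c : Fˣ} {φ : Matrix.SpecialLinearGroup (Fin 2) F →* GL D.Idx F}
    (hφ : ∀ t : F, φ (slU t) = C.X F β t ∧ φ (slL t) = C.X F β.rev t)
    (hU : ∀ t, n * C.X F β t * n⁻¹ = C.X F β.rev ((c : F) * t))
    (hL : ∀ t, n * C.X F β.rev t * n⁻¹ = C.X F β ((↑c⁻¹ : F) * t))
    {p q r s : F} {h h' : Matrix.SpecialLinearGroup (Fin 2) F}
    (eh : (h : Matrix (Fin 2) (Fin 2) F) = !![p, q; r, s])
    (eh' : (h' : Matrix (Fin 2) (Fin 2) F) = !![s, r * (↑c⁻¹ : F); (c : F) * q, p]) (hr : r ≠ 0) :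
    n * φ h * n⁻¹ = φ h' := by
  have hdet : p * s - q * r = 1 := by
    have := h.2
    rw [eh, Matrix.det_fin_two_of] at this
    exact this
  have d1 : h = slU ((p - 1) / r) * slL r * slU ((s - 1) / r) := by
    apply Subtype.ext
    rw [eh]
    have hq : q = (p * s - 1) / r := by rw [eq_div_iff hr]; linear_combination -hdet
    subst hq
    simp [slU_val, slL_val, Matrix.mul_fin_two, Matrix.SpecialLinearGroup.coe_mul]
    refine ⟨⟨?_, ?_⟩, ?_⟩ <;> field_simp <;> ring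
  have d2 : h' = slL ((c : F) * ((p - 1) / r)) * slU ((↑c⁻¹ : F) * r) * slL ((c : F) * ((s - 1) / r)) := by
    apply Subtype.ext
    rw [eh']
    have hq : q = (p * s - 1) / r := by rw [eq_div_iff hr]; linear_combination -hdet
    subst hq
    have hc : (c : F) ≠ 0 := c.ne_zero
    simp [slU_val, slL_val, Matrix.mul_fin_two, Matrix.SpecialLinearGroup.coe_mul]
    refine ⟨⟨?_, ?_⟩, ?_, ?_⟩ <;> field_simp <;> ring
  rw [d1, d2, map_mul, map_mul, map_mul, map_mul, (hφ _).1, (hφ _).2, (hφ _).1, (hφ _).2, (hφ _).1,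
    (hφ _).2, ← hU, ← hL, ← hU]
  group

theorem hL_of_hU {n : GL D.Idx F} (h2 : n * n = 1) {β : Rt D} {c : Fˣ}
    (hU : ∀ t, n * C.X F β t * n⁻¹ = C.X F β.rev ((c : F) * t)) (t : F) :
    n * C.X F β.rev t * n⁻¹ = C.X F β ((↑c⁻¹ : F) * t) := by
  have h := hU ((↑c⁻¹ : F) * t)
  rw [Units.mul_inv_cancel_left] at h
  rw [← h, inv_eq_of_mul_eq_one_right h2, ← mul_assoc, ← mul_assoc, h2, one_mul, mul_assoc, h2, mul_one]

theorem psi_data {n : GL D.Idx F} {σ : Equiv.Perm (Rt D)} (ha : C.Acts n σ) {β : Rt D} (hβ : β ∈ Psi σ) :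
    ∃ c : Fˣ, ∀ t, n * C.X F β t * n⁻¹ = C.X F β.rev ((c : F) * t) := by
  obtain ⟨c, hc⟩ := ha β
  rw [show σ β = β.rev from hβ] at hc
  exact ⟨c, hc⟩

include H

theorem conj_acts {σ : Equiv.Perm (Rt D)} {n : GL D.Idx F} (hn : n ∈ D.monomialSubgroup F)
    (ha : C.Acts n σ) : σ ∈ C.WG := by
  obtain ⟨τ, hτ, hτa⟩ := C.exists_acts hn
  rwa [C.acts_unique F ha hτa]

/-- A negated root with a square multiplier allows to shrink the set of negated roots. -/
theorem shrink (hF : ringChar F ≠ 2) {n : GL D.Idx F} (hn : n ∈ D.monomialSubgroup F) (h2 : n * n = 1)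
    {σ : Equiv.Perm (Rt D)} (ha : C.Acts n σ) {β : Rt D} (hβ : β ∈ Psi σ) {c : Fˣ}
    (hU : ∀ t, n * C.X F β t * n⁻¹ = C.X F β.rev ((c : F) * t)) (hc : qc c = 1) :
    ∃ g ∈ D.group F, ∃ m ∈ D.monomialSubgroup F, ∃ τ, g * n * g⁻¹ = m ∧ C.Acts m τ ∧
      (Psi τ).ncard < (Psi σ).ncard := by
  obtain ⟨e, he, hce⟩ := exists_sq_of_qc hc
  have two : (2 : F) ≠ 0 := Ring.two_ne_zero hF
  obtain ⟨φ, hφr, hφ⟩ := C.exists_slHom F β
  let g : Matrix.SpecialLinearGroup (Fin 2) F :=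
    ⟨!![1, -1 / e; e / 2, 1 / 2], by rw [Matrix.det_fin_two_of]; field_simp; ring⟩
  let gi : Matrix.SpecialLinearGroup (Fin 2) F :=
    ⟨!![1 / 2, 1 / e; -e / 2, 1], by rw [Matrix.det_fin_two_of]; field_simp; ring⟩
  let g' : Matrix.SpecialLinearGroup (Fin 2) F :=
    ⟨!![1, -e / 2 * (↑c⁻¹ : F); (c : F) * (1 / e), 1 / 2], by
      rw [Matrix.det_fin_two_of, Units.val_inv_eq_inv_val, hce]; field_simp; ring⟩
  have hgi : g⁻¹ = gi := by
    refine inv_eq_of_mul_eq_one_right (Subtype.ext ?_)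
    rw [Matrix.SpecialLinearGroup.coe_mul]
    ext i j
    fin_cases i <;> fin_cases j <;> simp [g, gi] <;> field_simp <;> ring
  have hconj : n * φ gi * n⁻¹ = φ g' :=
    conj_sl hφ hU (hL_of_hU h2 hU) (p := 1 / 2) (q := 1 / e) (r := -e / 2) (s := 1) rfl rfl
      (div_ne_zero (neg_ne_zero.2 he) two)
  let u : Fˣ := -(Units.mk0 e he)⁻¹
  have hgg : g * g' = slN u := by
    refine Subtype.ext ?_
    rw [Matrix.SpecialLinearGroup.coe_mul]
    ext i j
    fin_cases i <;> fin_cases j <;> simp [g, g', u, slN_val, Units.val_inv_eq_inv_val, hce] <;>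
      field_simp <;> ring
  have hφN : φ (slN u) = C.nR F β u := by
    rw [slN, map_mul, map_mul, (hφ _).1, (hφ _).2]; rfl
  have hres : φ g * n * (φ g)⁻¹ = C.nR F β u * n := by
    rw [← hφN, ← hgg, map_mul, ← hconj, ← map_inv, hgi]
    group
  have hgG : φ g ∈ D.group F := by
    have : φ g ∈ C.US F {β} ⊔ C.US F {β.rev} := hφr ▸ ⟨g, rfl⟩
    exact (sup_le (C.US_le_group _) (C.US_le_group _)) this
  obtain ⟨sb, hsb, hsba, hsbr⟩ := acts_nR C β u
  have hnR : C.nR F β u ∈ D.monomialSubgroup F := nR_mem_monomial C β u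
  have hσ := conj_acts H hn ha
  have hσ2 : σ * σ = 1 := by
    refine C.acts_unique F (C.acts_mul F ha ha) ?_
    rw [h2]; simpa [C.HT_one] using C.acts_HT F 1
  refine ⟨φ g, hgG, C.nR F β u * n, mul_mem hnR hn, sb * σ, hres, C.acts_mul F hsba ha, ?_⟩
  refine Set.ncard_lt_ncard ⟨fun r hr => ?_, fun h => ?_⟩ (Set.toFinite _)
  · have hr' : C.v (σ r) - pr D β (σ r) • C.v β = - C.v r := by
      rw [← hsbr, ← C.v_rev]; exact congrArg C.v hr
    rw [pr_of_mem_Psi C hσ hσ2 hβ r] at hr'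
    have h0 : pr D β r = 0 := by
      have h := congrArg (prV C β) hr'
      rw [map_sub, map_zsmul, map_neg, prV_v C, prV_v C, prV_v C, C.pr_self,
        pr_of_mem_Psi C hσ hσ2 hβ r, smul_eq_mul] at h
      omega
    rw [h0, neg_zero, zero_smul, sub_zero, ← C.v_rev] at hr'
    exact C.v_inj hr'
  · have hb := h hβ
    simp only [Psi, Set.mem_ofPred_eq, Equiv.Perm.mul_apply, show σ β = β.rev from hβ, WG_rev' C hsb,
      isRefl_self C hsbr, C.rev_rev] at hb
    exact C.ne_rev β hb.symm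

/-- An odd pair of negated roots: the multiplier of the second can be flipped. -/
theorem flip_class (hF : ringChar F ≠ 2) {n : GL D.Idx F} (hn : n ∈ D.monomialSubgroup F) (h2 : n * n = 1)
    {σ : Equiv.Perm (Rt D)} (ha : C.Acts n σ) {α β : Rt D} (hα : α ∈ Psi σ) (hodd : Odd (pr D α β))
    {a c : Fˣ} (hUa : ∀ t, n * C.X F α t * n⁻¹ = C.X F α.rev ((a : F) * t))
    (hU : ∀ t, n * C.X F β t * n⁻¹ = C.X F β.rev ((c : F) * t)) (hc : qc c = -1) :
    ∃ g ∈ D.group F, ∃ m ∈ D.monomialSubgroup F, ∃ c' : Fˣ, g * n * g⁻¹ = m ∧ m * m = 1 ∧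
      C.Acts m σ ∧ (∀ t, m * C.X F β t * m⁻¹ = C.X F β.rev ((c' : F) * t)) ∧ qc c' = 1 := by
  obtain ⟨μ, hμ⟩ := exists_qc_neg hF
  obtain ⟨x, y, hxy⟩ := FiniteField.exists_root_sum_quadratic
    (f := Polynomial.X ^ 2 - Polynomial.C (μ : F)) (g := Polynomial.C (-(a : F)) * Polynomial.X ^ 2) (Polynomial.degree_X_pow_sub_C (by norm_num) _)
    (Polynomial.degree_C_mul_X_pow 2 (neg_ne_zero.2 a.ne_zero)) (FiniteField.odd_card_of_char_ne_two hF)
  simp only [Polynomial.eval_sub, Polynomial.eval_pow, Polynomial.eval_X, Polynomial.eval_C,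
    Polynomial.eval_mul] at hxy
  have hxy' : x ^ 2 - (a : F) * y ^ 2 = μ := by linear_combination hxy
  have hy : y ≠ 0 := by
    rintro rfl
    have h1 : quadraticChar F (μ : F) = -1 := by
      have := congrArg Units.val hμ
      simpa [qc, MulChar.coe_toUnitHom] using this
    exact quadraticChar_neg_one_iff_not_isSquare.1 h1 ⟨x, by linear_combination -hxy'⟩
  obtain ⟨φ, hφr, hφ⟩ := C.exists_slHom F α
  have hμ0 : (μ : F) ≠ 0 := μ.ne_zero
  have ha0 : (a : F) ≠ 0 := a.ne_zero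
  let g : Matrix.SpecialLinearGroup (Fin 2) F :=
    ⟨!![x, y; (a : F) * y / μ, x / μ], by rw [Matrix.det_fin_two_of]; field_simp; linear_combination hxy'⟩
  let gi : Matrix.SpecialLinearGroup (Fin 2) F :=
    ⟨!![x / μ, -y; -((a : F) * y / μ), x], by
      rw [Matrix.det_fin_two_of]; field_simp; linear_combination hxy'⟩
  let g' : Matrix.SpecialLinearGroup (Fin 2) F :=
    ⟨!![x, -((a : F) * y / μ) * (↑a⁻¹ : F); (a : F) * -y, x / μ], by
      rw [Matrix.det_fin_two_of, Units.val_inv_eq_inv_val]; field_simp; linear_combination hxy'⟩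
  have hgi : g⁻¹ = gi := by
    refine inv_eq_of_mul_eq_one_right (Subtype.ext ?_)
    rw [Matrix.SpecialLinearGroup.coe_mul]
    ext i j
    fin_cases i <;> fin_cases j <;> simp [g, gi] <;> field_simp <;>
      first | linear_combination hxy' | linear_combination -hxy' | ring
  have hconj : n * φ gi * n⁻¹ = φ g' :=
    conj_sl hφ hUa (hL_of_hU h2 hUa) (p := x / μ) (q := -y) (r := -((a : F) * y / μ)) (s := x) rfl rfl
      (neg_ne_zero.2 (div_ne_zero (mul_ne_zero ha0 hy) hμ0))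
  have hgg : g * g' = slH μ := by
    refine Subtype.ext ?_
    rw [Matrix.SpecialLinearGroup.coe_mul]
    ext i j
    fin_cases i <;> fin_cases j <;> simp [g, g', slH_val, Units.val_inv_eq_inv_val] <;> field_simp <;>
      first | linear_combination hxy' | linear_combination -hxy' | ring
  have hφH : φ (slH μ) = Core.hD F α μ := by
    have hφN : ∀ u : Fˣ, φ (slN u) = C.nR F α u := fun u => by
      rw [slN, map_mul, map_mul, (hφ _).1, (hφ _).2]; rfl
    rw [slH, map_mul, hφN, hφN, C.hR_eq]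
  have hres : φ g * n * (φ g)⁻¹ = Core.hD F α μ * n := by
    rw [← hφH, ← hgg, map_mul, ← hconj, ← map_inv, hgi]
    group
  have hgG : φ g ∈ D.group F := by
    have : φ g ∈ C.US F {α} ⊔ C.US F {α.rev} := hφr ▸ ⟨g, rfl⟩
    exact (sup_le (C.US_le_group _) (C.US_le_group _)) this
  refine ⟨φ g, hgG, Core.hD F α μ * n, ?_, μ ^ pr D α β.rev * c, hres, ?_, ?_, fun t => ?_, ?_⟩
  · rw [C.hD_eq_HT]; exact mul_mem (C.HT_mem_monomial _) hn
  · rw [← hres]
    calc φ g * n * (φ g)⁻¹ * (φ g * n * (φ g)⁻¹) = φ g * (n * n) * (φ g)⁻¹ := by group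
      _ = 1 := by rw [h2, mul_one, mul_inv_cancel]
  · rw [C.hD_eq_HT]
    simpa using C.acts_mul F (C.acts_HT F _) ha
  · calc Core.hD F α μ * n * C.X F β t * (Core.hD F α μ * n)⁻¹
        = Core.hD F α μ * (n * C.X F β t * n⁻¹) * (Core.hD F α μ)⁻¹ := by group
      _ = _ := by
        rw [hU, C.hD_X, mul_inv_cancel_right]
        congr 1
        push_cast
        ring
  · rw [map_mul, map_zpow, hμ, hc, pr_rev_right C, Odd.neg_one_zpow hodd.neg]
    rfl

/-- The parity condition forced by all multipliers being nonsquares. -/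
theorem parity_of_nonsquare {n : GL D.Idx F} (hn : n ∈ D.monomialSubgroup F) (h2 : n * n = 1)
    {σ : Equiv.Perm (Rt D)} (ha : C.Acts n σ) {L : List (Rt D)}
    (hL : L.Pairwise (fun a b => Orth a b ∧ Comm4 C F a b))
    (hv : ∀ x, C.v (σ x) = C.v x - (L.map fun β => pr D β x • C.v β).sum)
    (hns : ∀ β ∈ L, ∀ c : Fˣ, (∀ t, n * C.X F β t * n⁻¹ = C.X F β.rev ((c : F) * t)) → qc c = -1)
    (i : Fin D.rank) : ¬ Odd (L.map fun β => pr D β (C.p i)).sum := by
  obtain ⟨⟨τ, hτ, hτa, hτv⟩, hsq, hX⟩ := nProd_spec hL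
  have hτσ : τ = σ := Equiv.ext fun x => C.v_inj (by rw [hτv, hv])
  subst hτσ
  set N := nProd C F L
  have hNm : N ∈ D.monomialSubgroup F := list_prod_mem fun g hg => by
    obtain ⟨β, -, rfl⟩ := List.mem_map.1 hg
    exact nR_mem_monomial C β 1
  have hd : n * N⁻¹ ∈ D.diagonalSubgroup F := by
    refine C.mem_diagonal_of_acts_one (mul_mem hn (inv_mem hNm)) ?_
    simpa using C.acts_mul F ha (C.acts_inv F hτa)
  obtain ⟨d, hd⟩ := C.mem_diagonal_iff.1 hd
  have hn' : n = C.HT F d * N := by rw [← hd, inv_mul_cancel_right]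
  obtain ⟨d', hd'⟩ := C.mem_diagonal_iff.1 (C.conj_diagonal hNm (C.HT_mem_diagonal d))
  have hτ2 : τ * τ = 1 := by
    refine C.acts_unique F (C.acts_mul F ha ha) ?_
    rw [h2]; simpa [C.HT_one] using C.acts_HT F 1
  have hχ' : ∀ r, C.chA d' (τ r) = C.chA d r := by
    intro r
    obtain ⟨e, he⟩ := hτa r
    have h1 : C.X F (τ r) ((C.chA d' (τ r) : F) * ((e : F) * 1)) = C.X F (τ r) ((e : F) * ((C.chA d r : F) * 1)) := by
      rw [← C.HT_X_conj, ← hd', ← he, ← he, ← C.HT_X_conj]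
      group
    have h2 := X_inj C h1
    apply Units.ext
    simp only [mul_one] at h2
    exact mul_left_cancel₀ e.ne_zero (by linear_combination h2)
  have hsum : ∀ s, C.chA d s * C.chA d (τ s) * (-1) ^ (L.map fun β => pr D β s).sum = 1 := by
    intro s
    have e : n * n = C.HT F d * C.HT F d' * (N * N) := by rw [hn', ← hd']; group
    rw [h2, hsq, Core.HT, Core.HT, C.diag_mul, C.diag_mul, ← C.diag_one F] at e
    have h := congrFun (C.diag_inj F e.symm) s
    simp only [Pi.mul_apply, Pi.one_apply] at h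
    have e2 : C.chA d' s = C.chA d (τ s) := by
      rw [← hχ' (τ s), ← Equiv.Perm.mul_apply, hτ2, Equiv.Perm.one_apply]
    rw [← e2]
    exact h
  have hβ : ∀ β ∈ L, qc (C.chA d β) = - qc (-1 : Fˣ) := by
    intro β hβL
    have h := hns β hβL (-(C.chA d β)⁻¹) fun t => by
      rw [hn']
      calc C.HT F d * N * C.X F β t * (C.HT F d * N)⁻¹
          = C.HT F d * (N * C.X F β t * N⁻¹) * (C.HT F d)⁻¹ := by group
        _ = _ := by
          rw [hX β hβL, C.HT_X_conj, ← C.chr_chA, C.chr_rev, C.chr_chA]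
          congr 1
          push_cast
          ring
    rw [← neg_one_mul, map_mul, map_inv, Int.units_inv_eq_self] at h
    rcases qc_cases (-1 : Fˣ) with e | e <;> rw [e] at h ⊢
    · simpa using h
    · rw [neg_neg]; simpa using h
  intro hodd
  set S := (L.map fun β => pr D β (C.p i)).sum with hS
  have hmain := congrArg qc (hsum (C.p i))
  have hrel : C.chA d (τ (C.p i)) = C.chA d (C.p i) / (L.map fun β => C.chA d β ^ pr D β (C.p i)).prod := by
    apply Additive.ofMul.injective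
    rw [chA_eq_chv, hv, map_sub, map_list_sum, ← chA_eq_chv, ofMul_div, ofMul_list_prod, List.map_map,
      List.map_map]
    congr 2
    refine List.map_congr_left fun β _ => ?_
    rw [Function.comp_apply, Function.comp_apply, map_zsmul, ← chA_eq_chv, ofMul_zpow]
  rw [hrel, map_mul, map_mul, map_div, map_list_prod, List.map_map, map_zpow, map_one] at hmain
  have hprod : (L.map (qc ∘ fun β => C.chA d β ^ pr D β (C.p i))).prod = (- qc (-1 : Fˣ)) ^ S := by
    rw [hS, ← prod_map_zpow]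
    refine congrArg List.prod (List.map_congr_left fun β hb => ?_)
    rw [Function.comp_apply, map_zpow, hβ β hb]
  rw [hprod] at hmain
  obtain ⟨k, hk⟩ := hodd
  have hodd' : ∀ u : ℤˣ, u ^ S = u := fun u => by
    rw [hk, zpow_add, zpow_mul, zpow_two, Int.units_mul_self, one_zpow, one_mul, zpow_one]
  rw [hodd', hodd'] at hmain
  rcases qc_cases (-1 : Fˣ) with e | e <;> rcases qc_cases (C.chA d (C.p i)) with e' | e' <;>
    rw [e, e'] at hmain <;> simp at hmain

theorem exists_diagonal_conj (K : RootOK C) (hF : ringChar F ≠ 2) {n : GL D.Idx F} (hn : n ∈ D.monomialSubgroup F)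
    (h2 : n * n = 1) : ∃ g ∈ D.group F, g * n * g⁻¹ ∈ D.diagonalSubgroup F := by
  obtain ⟨σ, -, ha⟩ := C.exists_acts hn
  suffices h : ∀ k, ∀ (n : GL D.Idx F) (σ : Equiv.Perm (Rt D)), n ∈ D.monomialSubgroup F → n * n = 1 →
      C.Acts n σ → (Psi σ).ncard = k → ∃ g ∈ D.group F, g * n * g⁻¹ ∈ D.diagonalSubgroup F from
    h _ n σ hn h2 ha rfl
  clear ha σ h2 hn n
  intro k
  induction k using Nat.strong_induction_on with
  | _ k ih =>
    intro n σ hn h2 ha hk
    have hσ := conj_acts H hn ha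
    have hσ2 : σ * σ = 1 := by
      refine C.acts_unique F (C.acts_mul F ha ha) ?_
      rw [h2]; simpa [C.HT_one] using C.acts_HT F 1
    have step : ∀ m : GL D.Idx F, (∃ g ∈ D.group F, g * n * g⁻¹ = m) → m ∈ D.monomialSubgroup F → m * m = 1 →
        C.Acts m σ → ∀ β ∈ Psi σ, ∀ c : Fˣ, (∀ t, m * C.X F β t * m⁻¹ = C.X F β.rev ((c : F) * t)) →
        qc c = 1 → ∃ g ∈ D.group F, g * n * g⁻¹ ∈ D.diagonalSubgroup F := by
      rintro m ⟨g₁, hg₁, rfl⟩ hm hm2 hma β hβ c hU hc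
      obtain ⟨g₂, hg₂, m', hm', τ, he, hτ, hlt⟩ := shrink H hF hm hm2 hma hβ hU hc
      have hm'2 : m' * m' = 1 := by
        rw [← he]
        calc g₂ * (g₁ * n * g₁⁻¹) * g₂⁻¹ * (g₂ * (g₁ * n * g₁⁻¹) * g₂⁻¹)
            = g₂ * g₁ * (n * n) * g₁⁻¹ * g₂⁻¹ := by group
          _ = 1 := by rw [h2]; group
      obtain ⟨g₃, hg₃, h3⟩ := ih _ (hk ▸ hlt) m' τ hm' hm'2 hτ rfl
      refine ⟨g₃ * g₂ * g₁, mul_mem (mul_mem hg₃ hg₂) hg₁, ?_⟩
      rw [← he] at h3
      convert h3 using 1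
      group
    by_cases hsq : ∃ β ∈ Psi σ, ∃ c : Fˣ, (∀ t, n * C.X F β t * n⁻¹ = C.X F β.rev ((c : F) * t)) ∧ qc c = 1
    · obtain ⟨β, hβ, c, hU, hc⟩ := hsq
      exact step n ⟨1, one_mem _, by group⟩ hn h2 ha β hβ c hU hc
    have hns : ∀ β ∈ Psi σ, ∀ c : Fˣ, (∀ t, n * C.X F β t * n⁻¹ = C.X F β.rev ((c : F) * t)) → qc c = -1 :=
      fun β hβ c hU => (qc_cases c).resolve_left fun hc => hsq ⟨β, hβ, c, hU, hc⟩
    by_cases hodd : ∃ a ∈ Psi σ, ∃ b ∈ Psi σ, Odd (pr D a b)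
    · obtain ⟨a, haΨ, b, hb, hab⟩ := hodd
      obtain ⟨ca, hca⟩ := psi_data ha haΨ
      obtain ⟨cb, hcb⟩ := psi_data ha hb
      obtain ⟨g, hg, m, hm, c', he, hm2, hma, hU, hc'⟩ := flip_class H hF hn h2 ha haΨ hab hca hcb (hns b hb cb hcb)
      exact step m ⟨g, hg, he⟩ hm hm2 hma b hb c' hU hc'
    push Not at hodd
    obtain ⟨L, hP, hΨ, hv⟩ := exists_orth C hσ hσ2
    rcases eq_or_ne L [] with rfl | hne
    · refine ⟨1, one_mem _, ?_⟩
      have hσ1 : σ = 1 := Equiv.ext fun x => C.v_inj (by simp [hv])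
      rw [one_mul, inv_one, mul_one]
      exact C.mem_diagonal_of_acts_one hn (hσ1 ▸ ha)
    exfalso
    have hP' : L.Pairwise (fun a b => Orth a b ∧ Comm4 C F a b) := hP.imp_of_mem fun {a b} h₁ h₂ ho =>
      ⟨ho, comm4_of_even H K hσ (fun x hx y hy => hodd x hx y hy) (hΨ a h₁) (hΨ b h₂) ho⟩
    rcases K.parity L hne hP with ⟨i, hi⟩ | ⟨ρ, β, hβ, hρ, hor⟩
    · exact parity_of_nonsquare H hn h2 ha hP' hv (fun β hb => hns β (hΨ β hb)) i hi
    · have hρΨ : ρ ∈ Psi σ := C.v_inj (by rw [hv, ← hρ, C.v_rev]; module)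
      rcases hor with h | h
      · exact hodd ρ hρΨ β (hΨ β hβ) h
      · exact hodd β (hΨ β hβ) ρ hρΨ h

end Finite

end Cfsg.Agent.Lib.OddInvolutions
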