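import Cfsg.Agent.Lib.OddInvolutions.Torus

/-!
The centraliser of a torus involution: |C(t)| = q^{#Φ⁺_t} |H| Σ_{σ fixes t} q^{#(inv' σ ∩ Φ_t)}.
-/

set_option autoImplicit false
set_option linter.unusedSectionVars false

namespace Cfsg.Agent.Lib.OddInvolutions

open Cfsg.Lie Cfsg.Agent.Lib.ChevStructure
open scoped MatrixGroups Matrix

variable {D : ChevalleyDatum}

/-- The roots at which a character is trivial. -/
def Fix (C : Core D) (c : Msk D) : Set (Rt D) := {r | par C c r = 0}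

/-- The centraliser inside the group, as a subgroup of GL. -/
def cGrp (C : Core D) (F : Type*) [Field F] (c : Msk D) : Subgroup (GL D.Idx F) :=
  D.group F ⊓ Subgroup.centralizer {tinv C F c}

variable {C : Core D} {F : Type*} [Field F]

theorem mem_cGrp {c : Msk D} {g : GL D.Idx F} :
    g ∈ cGrp C F c ↔ g ∈ D.group F ∧ tinv C F c * g = g * tinv C F c := by
  rw [cGrp, Subgroup.mem_inf, Subgroup.mem_centralizer_singleton_iff, eq_comm (a := tinv C F c * g)]

theorem card_centralizer_sub {c : Msk D} (t : D.group F) (ht : (t : GL D.Idx F) = tinv C F c) :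
    Nat.card (Subgroup.centralizer ({t} : Set (D.group F))) = Nat.card (cGrp C F c) := by
  refine Nat.card_congr
    { toFun := fun g => ⟨(g.1 : GL D.Idx F), mem_cGrp.2 ⟨g.1.2, ?_⟩⟩
      invFun := fun g => ⟨⟨g.1, (mem_cGrp.1 g.2).1⟩, ?_⟩
      left_inv := fun g => rfl
      right_inv := fun g => rfl }
  · have := congrArg Subtype.val (Subgroup.mem_centralizer_singleton_iff.1 g.2)
    simp only [Subgroup.coe_mul, ht] at this
    exact this.symm
  · rw [Subgroup.mem_centralizer_singleton_iff]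
    refine Subtype.ext ?_
    simp only [Subgroup.coe_mul, ht]
    exact (mem_cGrp.1 g.2).2.symm

variable (H : CommOK C)
include H

theorem tinv_X (c : Msk D) (hc : tinv C F c ∈ D.diagonalSubgroup F) (r : Rt D) (a : F) :
    tinv C F c * C.X F r a * (tinv C F c)⁻¹ = C.X F r ((sgn F (par C c r) : F) * a) := by
  obtain ⟨d, hd⟩ := C.mem_diagonal_iff.1 hc
  rw [hd, C.HT_X_conj]
  rw [tinv, Core.HT] at hd
  rw [congrFun (C.diag_inj F hd) r]
  rfl

theorem US_fix_commute (c : Msk D) (hc : tinv C F c ∈ D.diagonalSubgroup F) {S : Set (Rt D)}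
    (hS : S ⊆ Fix C c) {g : GL D.Idx F} (hg : g ∈ C.US F S) :
    tinv C F c * g = g * tinv C F c := by
  have : C.US F S ≤ Subgroup.centralizer {tinv C F c} := by
    refine (Subgroup.closure_le _).2 ?_
    rintro x ⟨r, hr, a, rfl⟩
    rw [SetLike.mem_coe, Subgroup.mem_centralizer_singleton_iff]
    have h := tinv_X H c hc r a
    rw [show par C c r = 0 from hS hr] at h
    simp only [sgn, if_true, Units.val_one, one_mul] at h
    exact (mul_inv_eq_iff_eq_mul.1 h).symm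
  exact (Subgroup.mem_centralizer_singleton_iff.1 (this hg)).symm

theorem wordX_conj (c : Msk D) (hc : tinv C F c ∈ D.diagonalSubgroup F) (a : Rt D → F) :
    ∀ L : List (Rt D), tinv C F c * C.wordX F L a * (tinv C F c)⁻¹ =
      C.wordX F L fun r => (sgn F (par C c r) : F) * a r
  | [] => by simp [Core.wordX]
  | r :: L => by
    have ih := wordX_conj c hc a L
    simp only [Core.wordX, List.map_cons, List.prod_cons] at ih ⊢
    rw [← tinv_X H c hc r, ← ih]
    group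

/-- Fixed points of a torus involution in the group of a closed set of positive roots. -/
theorem mem_US_fix (h2 : (2 : F) ≠ 0) (c : Msk D) (hc : tinv C F c ∈ D.diagonalSubgroup F) {S : Set (Rt D)}
    (hS : S ⊆ C.Pos) (hcl : ∀ r ∈ S, ∀ s ∈ S, ∀ (q : Rt D) (i j : ℕ), 1 ≤ i → 1 ≤ j →
      C.v q = (i : ℤ) • C.v r + (j : ℤ) • C.v s → q ∈ S) {u : GL D.Idx F} (hu : u ∈ C.US F S)
    (hfix : tinv C F c * u * (tinv C F c)⁻¹ = u) : u ∈ C.US F (S ∩ Fix C c) := by
  classical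
  set L := C.posL.filter fun r => decide (r ∈ S) with hL
  have hmem : ∀ r, r ∈ L ↔ r ∈ S := by
    intro r; simp [hL, C.mem_posL]; exact fun h => hS h
  have hset : {r | r ∈ L} = S := Set.ext hmem
  have hsort : L.Pairwise (· < ·) := C.posL_sorted.filter _
  obtain ⟨a, rfl⟩ := H.exists_word (R := F) hsort (fun r hr => hS ((hmem r).1 hr))
    (fun r hr s hs q i j hi hj hv => (hmem q).2 (hcl r ((hmem r).1 hr) s ((hmem s).1 hs) q i j hi hj hv))
    (by rw [hset]; exact hu)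
  rw [wordX_conj H c hc] at hfix
  refine list_prod_mem fun g hg => ?_
  obtain ⟨r, hr, rfl⟩ := List.mem_map.1 hg
  have hz := C.wordX_unique F hsort (fun r hr => hS ((hmem r).1 hr)) hfix r hr
  by_cases hp : par C c r = 0
  · exact C.X_mem_US F (S := S ∩ Fix C c) ⟨(hmem r).1 hr, hp⟩ _
  · have h1 : sgn F (par C c r) = -1 := if_neg hp
    rw [h1] at hz
    have : a r = 0 := by
      have h3 : (2 : F) * a r = 0 := by push_cast at hz; linear_combination -hz
      exact (mul_eq_zero.1 h3).resolve_left h2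
    rw [this, C.X_zero]
    exact one_mem _

theorem card_US_fix [Finite F] (c : Msk D) {S : Set (Rt D)} (hS : S ⊆ C.Pos)
    (hcl : ∀ r ∈ S, ∀ s ∈ S, ∀ (q : Rt D) (i j : ℕ), 1 ≤ i → 1 ≤ j →
      C.v q = (i : ℤ) • C.v r + (j : ℤ) • C.v s → q ∈ S) :
    Nat.card (C.US F (S ∩ Fix C c)) = Nat.card F ^ (S ∩ Fix C c).ncard := by
  refine H.card_US (fun _ h => hS h.1) fun r hr s hs q i j hi hj hv => ⟨hcl r hr.1 s hs.1 q i j hi hj hv, ?_⟩
  show par C c q = 0
  rw [par_combo C c hv, show par C c r = 0 from hr.2, show par C c s = 0 from hs.2]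
  simp

/-- The order of the centraliser of a torus involution. -/
theorem card_cGrp [Fintype C.WG] [Finite F] (h2 : (2 : F) ≠ 0) (c : Msk D)
    (hc : tinv C F c ∈ D.diagonalSubgroup F) :
    Nat.card (cGrp C F c) = Nat.card F ^ (C.Pos ∩ Fix C c).ncard * Nat.card (D.diagonalSubgroup F) *
      ∑ σ : C.WG, if comp C c (σ : Equiv.Perm (Rt D)) = c then
        Nat.card F ^ (C.inv' (σ : Equiv.Perm (Rt D)) ∩ Fix C c).ncard else 0 := by
  classical
  set t := tinv C F c with ht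
  let I := {σ : C.WG // comp C c (σ : Equiv.Perm (Rt D)) = c}
  let S : I → Set (Rt D) := fun σ => C.inv' ((σ : C.WG) : Equiv.Perm (Rt D)) ∩ Fix C c
  have hcl : ∀ σ : C.WG, ∀ r ∈ C.inv' (σ : Equiv.Perm (Rt D)), ∀ s ∈ C.inv' (σ : Equiv.Perm (Rt D)),
      ∀ (q : Rt D) (i j : ℕ), 1 ≤ i → 1 ≤ j → C.v q = (i : ℤ) • C.v r + (j : ℤ) • C.v s →
        q ∈ C.inv' (σ : Equiv.Perm (Rt D)) :=
    fun σ r hr s hs q i j _ hj hv => C.inv'_closed σ hr hs hj hv
  have hPcl : ∀ r ∈ C.Pos, ∀ s ∈ C.Pos, ∀ (q : Rt D) (i j : ℕ), 1 ≤ i → 1 ≤ j →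
      C.v q = (i : ℤ) • C.v r + (j : ℤ) • C.v s → q ∈ C.Pos :=
    fun r hr s hs q i j _ hj hv => H.pos_closed hr hs hj hv
  have hrhs : Nat.card (Σ σ : I, (C.US F (C.Pos ∩ Fix C c) × D.diagonalSubgroup F) × C.US F (S σ)) =
      Nat.card F ^ (C.Pos ∩ Fix C c).ncard * Nat.card (D.diagonalSubgroup F) *
      ∑ σ : C.WG, if comp C c (σ : Equiv.Perm (Rt D)) = c then
        Nat.card F ^ (C.inv' (σ : Equiv.Perm (Rt D)) ∩ Fix C c).ncard else 0 := by
    rw [Nat.card_sigma, ← Finset.sum_filter, Finset.mul_sum,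
      Finset.sum_subtype (Finset.univ.filter fun σ : C.WG => comp C c (σ : Equiv.Perm (Rt D)) = c)
        (p := fun σ : C.WG => comp C c (σ : Equiv.Perm (Rt D)) = c) (by simp)]
    refine Finset.sum_congr rfl fun σ _ => ?_
    rw [Nat.card_prod, Nat.card_prod, card_US_fix H c (Set.Subset.refl _) hPcl,
      card_US_fix H c (fun _ h => h.1) (hcl σ)]
  rw [← hrhs]
  have hdiag : ∀ h ∈ D.diagonalSubgroup F, t * h = h * t := by
    intro h hh
    obtain ⟨d, rfl⟩ := C.mem_diagonal_iff.1 hh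
    obtain ⟨e, he⟩ := C.mem_diagonal_iff.1 hc
    rw [he, C.HT_mul, C.HT_mul, mul_comm]
  have hrep : ∀ σ : C.WG, C.rep F σ * t * (C.rep F σ)⁻¹ =
      tinv C F (comp C c (σ : Equiv.Perm (Rt D))⁻¹) := fun σ =>
    conj_tinv C (C.rep_mem σ) (C.acts_rep F σ) hc
  refine (Nat.card_congr (Equiv.ofBijective
    (fun x : Σ σ : I, (C.US F (C.Pos ∩ Fix C c) × D.diagonalSubgroup F) × C.US F (S σ) =>
      (⟨x.2.1.1.1 * x.2.1.2.1 * C.rep F x.1.1 * x.2.2.1, mem_cGrp.2 ⟨?_, ?_⟩⟩ : cGrp C F c)) ⟨?_, ?_⟩)).symm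
  · exact mul_mem (mul_mem (mul_mem (C.US_le_group _ x.2.1.1.2) (C.diagonal_le_group x.2.1.2.2))
      (C.monomial_le_group (C.rep_mem _))) (C.US_le_group _ x.2.2.2)
  · have h1 := US_fix_commute H c hc (S := C.Pos ∩ Fix C c) Set.inter_subset_right x.2.1.1.2
    have h4 := US_fix_commute H c hc (S := S x.1) Set.inter_subset_right x.2.2.2
    have h2 := hdiag _ x.2.1.2.2
    have h3 : t * C.rep F x.1.1 = C.rep F x.1.1 * t := by
      have e := hrep x.1.1
      have hfix : comp C c (x.1.1 : Equiv.Perm (Rt D))⁻¹ = c := by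
        refine (congrArg (fun z => comp C z (x.1.1 : Equiv.Perm (Rt D))⁻¹) x.1.2).symm.trans ?_
        rw [comp_comp C x.1.1.2, mul_inv_cancel, comp_one]
      rw [hfix] at e
      exact (mul_inv_eq_iff_eq_mul.1 e).symm
    exact (((show Commute t _ from h1).mul_right h2).mul_right h3).mul_right h4
  · rintro ⟨σ, ⟨⟨v, hv⟩, ⟨k, hk⟩⟩, ⟨u, hu⟩⟩ ⟨τ, ⟨⟨v', hv'⟩, ⟨k', hk'⟩⟩, ⟨u', hu'⟩⟩ h
    have hv0 : v ∈ C.US F C.Pos := C.US_mono F Set.inter_subset_left hv
    have hv0' : v' ∈ C.US F C.Pos := C.US_mono F Set.inter_subset_left hv'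
    obtain ⟨e1, e2, e3⟩ := H.normalForm_unique (σ := σ.1) (τ := τ.1)
      (C.mem_borel_iff.2 ⟨v, hv0, k, hk, rfl⟩) (C.mem_borel_iff.2 ⟨v', hv0', k', hk', rfl⟩)
      (C.US_mono F Set.inter_subset_left hu) (C.US_mono F Set.inter_subset_left hu') (congrArg Subtype.val h)
    obtain rfl : σ = τ := Subtype.ext e1
    subst e3
    have := Subgroup.mul_injective_of_disjoint (disjoint_iff.2 C.US_inf_diagonal)
      (a₁ := (⟨v, hv0⟩, ⟨k, hk⟩)) (a₂ := (⟨v', hv0'⟩, ⟨k', hk'⟩)) e2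
    simp only [Prod.mk.injEq, Subtype.mk.injEq] at this
    obtain ⟨rfl, rfl⟩ := this
    rfl
  · rintro ⟨g, hg⟩
    obtain ⟨hgG, hgc⟩ := mem_cGrp.1 hg
    obtain ⟨σ, b, hb, u, hu, rfl⟩ := H.exists_normalForm hgG
    obtain ⟨v, hv, k, hk, rfl⟩ := C.mem_borel_iff.1 hb
    set r := C.rep F σ with hr
    have hk' : t * r * t⁻¹ * r⁻¹ ∈ D.diagonalSubgroup F := by
      have := C.conj_diagonal (C.rep_mem σ) (inv_mem hc)
      rw [mul_assoc t, mul_assoc t]
      exact mul_mem hc this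
    have hnv : t * v * t⁻¹ ∈ C.US F C.Pos :=
      (Subgroup.mem_normalizer_iff.1 (C.diag_le_normalizer C.Pos hc) v).1 hv
    have hnu : t * u * t⁻¹ ∈ C.US F (C.inv' (σ : Equiv.Perm (Rt D))) :=
      (Subgroup.mem_normalizer_iff.1 (C.diag_le_normalizer _ hc) u).1 hu
    have e : t * v * t⁻¹ * (k * (t * r * t⁻¹ * r⁻¹)) * r * (t * u * t⁻¹) = v * k * r * u := by
      have e1 : t * k * t⁻¹ = k := by rw [hdiag k hk]; group
      calc t * v * t⁻¹ * (k * (t * r * t⁻¹ * r⁻¹)) * r * (t * u * t⁻¹)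
          = t * v * t⁻¹ * (t * k * t⁻¹) * (t * r * t⁻¹) * (t * u * t⁻¹) := by rw [e1]; group
        _ = t * (v * k * r * u) * t⁻¹ := by group
        _ = _ := by rw [hgc, ← ht]; group
    obtain ⟨-, eb, eu⟩ := H.normalForm_unique (σ := σ) (τ := σ)
      (C.mem_borel_iff.2 ⟨_, hnv, _, mul_mem hk hk', rfl⟩) (C.mem_borel_iff.2 ⟨v, hv, k, hk, rfl⟩) hnu hu e
    have e2 := Subgroup.mul_injective_of_disjoint (disjoint_iff.2 C.US_inf_diagonal)
      (a₁ := (⟨_, hnv⟩, ⟨_, mul_mem hk hk'⟩)) (a₂ := (⟨v, hv⟩, ⟨k, hk⟩)) eb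
    simp only [Prod.mk.injEq, Subtype.mk.injEq, mul_eq_left] at e2
    obtain ⟨ev, ek⟩ := e2
    have hσ : comp C c (σ : Equiv.Perm (Rt D)) = c := by
      have e3 : r * t * r⁻¹ = t := by
        rw [mul_inv_eq_one, mul_inv_eq_iff_eq_mul] at ek
        rw [← ek]; group
      rw [hrep σ] at e3
      have e4 := tinv_inj C h2 e3
      conv_lhs => rw [← e4]
      rw [comp_comp C (inv_mem σ.2), inv_mul_cancel, comp_one]
    exact ⟨⟨⟨σ, hσ⟩, ⟨⟨v, mem_US_fix H h2 c hc (Set.Subset.refl _) hPcl hv ev⟩, ⟨k, hk⟩⟩,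
      ⟨u, mem_US_fix H h2 c hc (fun _ h => h.1) (hcl σ) hu eu⟩⟩, rfl⟩

end Cfsg.Agent.Lib.OddInvolutions
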