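import Cfsg.Agent.Lib.ChevStructure.Poincare
import Cfsg.Agent.Lib.OddInvolutions.Reduce

/-!
`RootOK` from a kernel check on the packed tables.
-/

set_option autoImplicit false
set_option linter.unusedSectionVars false

namespace Cfsg.Agent.Lib.ChevStructure.Fast

variable (F : Fast)

/-- Σ pr(β, s) over a list. -/
def oiSum (L : List ℕ) (s : ℕ) : ℤ := L.foldr (fun b a => F.pr b s + a) 0

/-- all sums at fundamental roots are even -/
def oiEven (L : List ℕ) : Bool := allLt F.l fun j => decide (F.oiSum L (F.p j) % 2 = 0)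

/-- orthogonal roots -/
def oiOrth (a b : ℕ) : Bool := decide (F.pr a b = 0) && decide (F.pr b a = 0)

/-- a root of the span which is negated, pairing oddly with a member -/
def oiWit (L : List ℕ) : Bool :=
  (List.range F.n).any fun ρ =>
    L.any (fun b => decide (F.pr ρ b % 2 = 1) || decide (F.pr b ρ % 2 = 1)) &&
      allLt F.l fun m => decide (2 * F.v ρ m = L.foldr (fun g a => F.pr g ρ * F.v g m + a) 0)

/-- depth-first search over orthogonal extensions -/
def oiChk : ℕ → List ℕ → List ℕ → Bool
  | 0, _, _ => false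
  | k + 1, L, C =>
    cond (F.oiEven L) (F.oiWit L) (oiKids (oiChk k) L C)
where
  /-- children -/
  oiKids (rec : List ℕ → List ℕ → Bool) (L : List ℕ) : List ℕ → Bool
    | [] => true
    | c :: C => rec (c :: L) (C.filter (F.oiOrth c)) && oiKids rec L C

/-- the check -/
def rootOKB : Bool :=
  allLt F.l (fun i => allLt F.n fun q =>
    decide (F.pr (F.p i) q ≤ 3) &&
      cond (Nat.beq q (F.p i)) true
        (cond (decide (F.pr (F.p i) q = 2)) (decide (F.pr q (F.p i) % 2 = 1)) true)) &&
  allLt F.l (fun i => !F.oiEven [F.p i]) &&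
  F.top.all fun T => T.2.2.all fun s => cond (F.oiOrth T.1 s)
    (F.oiChk (F.l + 1) [s, T.1]
      ((List.range F.n).filter fun q => Nat.ble F.half q && F.oiOrth T.1 q && F.oiOrth s q)) true

theorem oiKids_spec {rec : List ℕ → List ℕ → Bool} {L : List ℕ} :
    ∀ {C : List ℕ}, oiChk.oiKids F rec L C = true → ∀ {c : ℕ} {C' : List ℕ}, (c :: C').Sublist C →
      ∃ C'', C'.Sublist C'' ∧ rec (c :: L) (C''.filter (F.oiOrth c)) = true
  | [], _, c, C', h => by simp at h
  | d :: C, hk, c, C', h => by
    simp only [oiChk.oiKids, Bool.and_eq_true] at hk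
    rcases List.sublist_cons_iff.1 h with h' | ⟨r, hr, h'⟩
    · exact oiKids_spec hk.2 h'
    · rw [List.cons.injEq] at hr
      obtain ⟨rfl, rfl⟩ := hr
      exact ⟨C, h', hk.1⟩

theorem oiChk_spec : ∀ {k : ℕ} {L C : List ℕ}, F.oiChk k L C = true → ∀ S : List ℕ, S.Sublist C →
    S.Pairwise (fun a b => F.oiOrth a b = true) →
    F.oiEven (S.reverse ++ L) = false ∨ ∃ T, T <:+ S.reverse ++ L ∧ F.oiWit T = true
  | 0, _, _, h, _, _, _ => by simp [oiChk] at h
  | k + 1, L, C, h, S, hS, hP => by
    rw [oiChk] at h
    cases he : F.oiEven L with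
    | true =>
      rw [he] at h
      exact Or.inr ⟨L, List.suffix_append _ _, h⟩
    | false =>
      rw [he] at h
      cases S with
      | nil => exact Or.inl (by simpa using he)
      | cons c S' =>
        obtain ⟨C'', hsub, hrec⟩ := F.oiKids_spec h hS
        obtain ⟨hc, hP'⟩ := List.pairwise_cons.1 hP
        have hsub' : S'.Sublist (C''.filter (F.oiOrth c)) := by
          have := hsub.filter (F.oiOrth c)
          rwa [List.filter_eq_self.2 hc] at this
        simpa using oiChk_spec hrec S' hsub' hP'

end Cfsg.Agent.Lib.ChevStructure.Fast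

namespace Cfsg.Agent.Lib.OddInvolutions

open Cfsg.Lie Cfsg.Agent.Lib.ChevStructure

variable {D : ChevalleyDatum}

/-- The conclusion of the parity field. -/
def ParGoal (C : Core D) (L : List (Rt D)) : Prop :=
  (∃ s, Odd (L.map fun β => pr D β s).sum) ∨
    ∃ ρ, ∃ β ∈ L, (2 : ℤ) • C.v ρ = (L.map fun γ => pr D γ ρ • C.v γ).sum ∧
      (Odd (pr D ρ β) ∨ Odd (pr D β ρ))

theorem sum_pr_lin (C : Core D) (L : List (Rt D)) (s : Rt D) :
    (L.map fun β => pr D β s).sum = ∑ m, C.v s m * (L.map fun β => pr D β (C.p m)).sum := by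
  induction L with
  | nil => simp
  | cons b L ih =>
    simp only [List.map_cons, List.sum_cons, mul_add, Finset.sum_add_distrib, ← ih]
    congr 1
    exact (prV_v C b s).symm

theorem ParGoal.simple {C : Core D} {L : List (Rt D)} (h : ParGoal C L) :
    (∃ i, Odd (L.map fun β => pr D β (C.p i)).sum) ∨
      ∃ ρ, ∃ β ∈ L, (2 : ℤ) • C.v ρ = (L.map fun γ => pr D γ ρ • C.v γ).sum ∧
        (Odd (pr D ρ β) ∨ Odd (pr D β ρ)) := by
  refine h.imp (fun ⟨s, hs⟩ => ?_) id
  by_contra hc
  push Not at hc
  rw [sum_pr_lin C] at hs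
  refine Int.not_odd_iff_even.2 (Finset.even_sum _ fun m _ => Even.mul_left ?_ _) hs
  exact Int.not_odd_iff_even.1 (hc m)

theorem ParGoal.map_w {C : Core D} {L : List (Rt D)} (h : ParGoal C L) (i : Fin D.rank) :
    ParGoal C (L.map (C.w i)) := by
  rcases h with ⟨s, hs⟩ | ⟨ρ, β, hβ, hρ, hor⟩
  · refine Or.inl ⟨C.w i s, ?_⟩
    simpa [List.map_map, Function.comp_def, C.pr_w] using hs
  · refine Or.inr ⟨C.w i ρ, C.w i β, List.mem_map_of_mem hβ, ?_, by rwa [C.pr_w, C.pr_w]⟩
    rw [← C.sref_apply, ← linV_v C (sref_mem C i), ← map_zsmul, hρ, map_list_sum, List.map_map, List.map_map]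
    refine congrArg List.sum (List.map_congr_left fun γ _ => ?_)
    simp only [Function.comp_apply, map_zsmul, linV_v C (sref_mem C i), C.sref_apply, C.pr_w]

theorem ParGoal.perm {C : Core D} {L L' : List (Rt D)} (h : ParGoal C L) (hp : L.Perm L') : ParGoal C L' := by
  rcases h with ⟨s, hs⟩ | ⟨ρ, β, hβ, hρ, hor⟩
  · exact Or.inl ⟨s, by rwa [← (hp.map _).sum_eq]⟩
  · exact Or.inr ⟨ρ, β, hp.subset hβ, by rw [hρ, (hp.map _).sum_eq], hor⟩

/-- Changing signs of the members does not matter. -/
theorem ParGoal.sign {C : Core D} {g : Rt D → Rt D} (hg : ∀ r, g r = r ∨ g r = r.rev) {L : List (Rt D)}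
    (h : ParGoal C (L.map g)) : ParGoal C L := by
  rcases h with ⟨s, hs⟩ | ⟨ρ, β, hβ, hρ, hor⟩
  · refine Or.inl ⟨s, ?_⟩
    have e : Even ((L.map fun β => pr D β s).sum - ((L.map g).map fun β => pr D β s).sum) := by
      clear hs
      induction L with
      | nil => simp
      | cons b L ih =>
        simp only [List.map_cons, List.sum_cons]
        rw [add_sub_add_comm]
        refine Even.add ?_ ih
        rcases hg b with e | e <;> rw [e]
        · simp
        · exact ⟨pr D b s, by rw [C.pr_rev]; ring⟩
    have := e.add_odd hs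
    rwa [sub_add_cancel] at this
  · obtain ⟨γ, hγ, rfl⟩ := List.mem_map.1 hβ
    refine Or.inr ⟨ρ, γ, hγ, ?_, ?_⟩
    · rw [hρ, List.map_map]
      refine congrArg List.sum (List.map_congr_left fun δ _ => ?_)
      rw [Function.comp_apply]
      rcases hg δ with e | e <;> rw [e]
      rw [C.pr_rev, C.v_rev, neg_smul, smul_neg, neg_neg]
    · rcases hg γ with e | e <;> rw [e] at hor
      · exact hor
      · simpa [C.pr_rev, pr_rev_right C] using hor

/-- A witness for part of an orthogonal list is one for the whole list. -/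
theorem wit_mono {C : Core D} {P T : List (Rt D)} (hP : (P ++ T).Pairwise Orth) {ρ : Rt D}
    (hρ : (2 : ℤ) • C.v ρ = (T.map fun γ => pr D γ ρ • C.v γ).sum) :
    (2 : ℤ) • C.v ρ = ((P ++ T).map fun γ => pr D γ ρ • C.v γ).sum := by
  have h0 : ∀ γ ∈ P, pr D γ ρ = 0 := by
    intro γ hγ
    have h := congrArg (prV C γ) hρ
    rw [map_zsmul, prV_v C, map_list_sum, List.map_map, List.sum_eq_zero, smul_eq_mul] at h
    · omega
    · intro z hz
      obtain ⟨δ, hδ, rfl⟩ := List.mem_map.1 hz
      rw [Function.comp_apply, map_zsmul, prV_v C, ((List.pairwise_append.1 hP).2.2 γ hγ δ hδ).1, smul_zero]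
  rw [List.map_append, List.sum_append, ← hρ, List.sum_eq_zero (l := P.map _), zero_add]
  intro z hz
  obtain ⟨γ, hγ, rfl⟩ := List.mem_map.1 hz
  rw [h0 γ hγ, zero_smul]

variable {F : Fast} (H : Fast.Certified F D)
include H

theorem oiSum_eq (L : List (Rt D)) (s : Rt D) :
    F.oiSum (L.map Fin.val) s.val = (L.map fun β => pr D β s).sum := by
  induction L with
  | nil => rfl
  | cons b L ih => simp only [List.map_cons, List.sum_cons, Fast.oiSum, List.foldr_cons, H.pr_val] at ih ⊢; rw [ih]

theorem oiEven_false {L : List (Rt D)} (h : F.oiEven (L.map Fin.val) = false) :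
    ∃ s, Odd (L.map fun β => pr D β s).sum := by
  by_contra hc
  push Not at hc
  suffices F.oiEven (L.map Fin.val) = true by rw [this] at h; simp at h
  rw [Fast.oiEven, allLt_iff]
  intro j hj
  rw [decide_eq_true_eq, ← Int.even_iff]
  have := hc (H.core.p ⟨j, H.hl.symm ▸ hj⟩)
  rw [← oiSum_eq H] at this
  exact Int.not_odd_iff_even.1 this

theorem oiOrth_iff (a b : Rt D) : F.oiOrth a.val b.val = true ↔ Orth a b := by
  simp [Fast.oiOrth, Orth, H.pr_val]

theorem oiWit_goal {T : List (Rt D)} (h : F.oiWit (T.map Fin.val) = true) :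
    ∃ ρ, ∃ β ∈ T, (2 : ℤ) • H.core.v ρ = (T.map fun γ => pr D γ ρ • H.core.v γ).sum ∧
      (Odd (pr D ρ β) ∨ Odd (pr D β ρ)) := by
  simp only [Fast.oiWit, List.any_eq_true, List.mem_range, Bool.and_eq_true, allLt_iff,
    decide_eq_true_eq, Bool.or_eq_true, List.mem_map] at h
  obtain ⟨ρ, hρ, ⟨b, ⟨β, hβ, rfl⟩, hor⟩, heq⟩ := h
  refine ⟨⟨ρ, H.hn ▸ hρ⟩, β, hβ, funext fun m => ?_, ?_⟩
  · rw [Pi.smul_apply, smul_eq_mul]
    refine (heq m.val (H.lt_l m)).trans ?_
    clear hor hβ heq
    induction T with
    | nil => simp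
    | cons g T ih =>
      simp only [List.map_cons, List.foldr_cons, List.sum_cons, Pi.add_apply, Pi.smul_apply, smul_eq_mul, ih]
      rw [H.pr_val]
      rfl
  · simpa [Int.odd_iff, H.pr_val] using hor

theorem rootOK (h : F.rootOKB = true) : RootOK H.core := by
  simp only [Fast.rootOKB, Bool.and_eq_true, allLt_iff, List.all_eq_true] at h
  obtain ⟨⟨hpair, hsingle⟩, hpairs⟩ := h
  have hbase : ∀ r s : Rt D, pr D r s ≤ 3 ∧ (s ≠ r → pr D r s = 2 → Odd (pr D s r)) := by
    refine H.core.ind (fun r => ∀ s, pr D r s ≤ 3 ∧ (s ≠ r → pr D r s = 2 → Odd (pr D s r))) (fun i s => ?_)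
      fun i r ih s => ?_
    · obtain ⟨h1, h2⟩ := hpair i.val (H.lt_l i) s.val (H.lt_n s)
      rw [decide_eq_true_eq] at h1
      refine ⟨by rw [H.pr_val]; exact h1, fun hne he => ?_⟩
      rw [H.pr_val] at he
      have he' : F.pr (F.p i.val) s.val = 2 := he
      have hb : Nat.beq s.val (F.p i.val) = false := by
        rw [Bool.eq_false_iff]
        exact fun e => hne (Fin.ext (Nat.eq_of_beq_eq_true e))
      rw [hb, Bool.cond_false, he', decide_eq_true (rfl : (2 : ℤ) = 2), Bool.cond_true, decide_eq_true_eq] at h2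
      rw [Int.odd_iff, H.pr_val]
      exact h2
    · obtain ⟨h1, h2⟩ := ih (H.core.w i s)
      rw [← H.core.pr_w i r (H.core.w i s), H.core.w_w] at h1
      refine ⟨h1, fun hne he => ?_⟩
      have := h2 (fun e => hne (by rw [← e, H.core.w_w]))
        (by rw [← H.core.pr_w i r (H.core.w i s), H.core.w_w]; exact he)
      rwa [← H.core.pr_w i (H.core.w i s) r, H.core.w_w] at this
  refine ⟨fun r s => (hbase r s).1, fun r s => (hbase r s).2, ?_⟩
  suffices hh : ∀ L : List (Rt D), L ≠ [] → L.Pairwise Orth → ParGoal H.core L from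
    fun L h1 h2 => (hh L h1 h2).simple
  intro L hne hP
  have horth_w : ∀ (i : Fin D.rank) {M : List (Rt D)}, M.Pairwise Orth →
      (M.map (H.core.w i)).Pairwise Orth := fun i M hM =>
    List.pairwise_map.2 (hM.imp fun h => ⟨by rw [H.core.pr_w]; exact h.1, by rw [H.core.pr_w]; exact h.2⟩)
  match L, hne, hP with
  | [β], _, _ =>
    refine H.core.ind (fun r => ParGoal H.core [r]) (fun i => Or.inl ?_) (fun i r ih => ih.map_w i) β
    have := hsingle i.val (H.lt_l i)
    rw [Bool.not_eq_true'] at this
    exact oiEven_false H (L := [H.core.p i]) this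
  | β :: γ :: M, _, hP =>
    have hne' : γ ≠ β.rev := by
      intro e
      have := ((List.pairwise_cons.1 hP).1 γ List.mem_cons_self).1
      rw [e, pr_rev_right H.core, H.core.pr_self] at this
      omega
    refine H.core.ind2 (fun r s => ∀ M, (r :: s :: M).Pairwise Orth → ParGoal H.core (r :: s :: M)) ?_ ?_
      β γ hne' M hP
    · rintro ⟨r, s⟩ hq M hP
      simp only [List.pairwise_cons] at hP
      obtain ⟨hr, hs, hM⟩ := hP
      obtain ⟨T, hT, b, hb, hrs⟩ : ∃ T ∈ F.top, ∃ b ∈ T.2.2, T.1 = r.val ∧ b = s.val := by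
        have hq' : (r, s) ∈ Fast.Certified.baseF F D := hq
        simp only [Fast.Certified.baseF, List.mem_flatMap, List.mem_filterMap] at hq'
        obtain ⟨T, hT, b, hb, hsome⟩ := hq'
        unfold Fast.Certified.mkPair at hsome
        split_ifs at hsome with hh
        simp only [Option.some.injEq, Prod.mk.injEq] at hsome
        exact ⟨T, hT, b, hb, congrArg Fin.val hsome.1, congrArg Fin.val hsome.2⟩
      have hc := hpairs T hT b hb
      rw [hrs.1, hrs.2, (oiOrth_iff H r s).2 (hr s List.mem_cons_self), Bool.cond_true] at hc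
      -- positive representatives
      let g : Rt D → Rt D := fun x => if D.nroots ≤ 2 * x.val then x else x.rev
      have hg : ∀ x, g x = x ∨ g x = x.rev := fun x => by simp only [g]; split_ifs <;> simp
      have hgO : ∀ {x y}, Orth x y → Orth x (g y) ∧ Orth (g x) y := by
        intro x y ho
        constructor
        · rcases hg y with e | e <;> rw [e]
          · exact ho
          · exact ⟨by rw [pr_rev_right H.core, ho.1]; rfl, by rw [H.core.pr_rev, ho.2]; rfl⟩
        · rcases hg x with e | e <;> rw [e]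
          · exact ho
          · exact ⟨by rw [H.core.pr_rev, ho.1]; rfl, by rw [pr_rev_right H.core, ho.2]; rfl⟩
      have hgpos : ∀ x, F.half ≤ (g x).val := by
        intro x
        have := H.half_eq; have := H.hn
        simp only [g]
        split_ifs with hx
        · omega
        · rw [Fin.val_rev]; have := x.isLt; omega
      have hM' : (M.map g).Pairwise Orth :=
        List.pairwise_map.2 (hM.imp fun h => (hgO (hgO h).1).2)
      have hnd : ((M.map g).map Fin.val).Nodup := by
        refine (List.pairwise_map.2 (hM'.imp fun {a b} h e => ?_))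
        have := h.1
        rw [Fin.ext e, H.core.pr_self] at this
        omega
      set C0 := (List.range F.n).filter fun q => Nat.ble F.half q && F.oiOrth r.val q && F.oiOrth s.val q
      let S := C0.filter fun q => decide (q ∈ (M.map g).map Fin.val)
      have hperm : S.Perm ((M.map g).map Fin.val) := by
        refine (List.perm_ext_iff_of_nodup ((List.nodup_range.filter _).filter _) hnd).2 fun q => ?_
        constructor
        · intro hq; exact of_decide_eq_true (List.mem_filter.1 hq).2
        · intro hq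
          refine List.mem_filter.2 ⟨List.mem_filter.2 ?_, decide_eq_true hq⟩
          simp only [List.map_map, List.mem_map, Function.comp_apply] at hq
          obtain ⟨x, hx, rfl⟩ := hq
          simp only [Bool.and_eq_true, Nat.ble_eq, oiOrth_iff H, List.mem_range]
          exact ⟨H.lt_n _, ⟨hgpos x, (hgO (hr x (List.mem_cons_of_mem _ hx))).1⟩, (hgO (hs x hx)).1⟩
      have hSP : S.Pairwise (fun a b => F.oiOrth a b = true) := by
        refine hperm.symm.pairwise ?_ (fun {a b} h => ?_)
        · exact List.pairwise_map.2 (hM'.imp fun h => (oiOrth_iff H _ _).2 h)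
        · simp only [Fast.oiOrth, Bool.and_eq_true] at h ⊢; exact h.symm
      obtain ⟨S', hS'⟩ : ∃ S' : List (Rt D), S'.map Fin.val = S :=
        ⟨S.filterMap fun q => if h : q < D.nroots then some ⟨q, h⟩ else none, toFinL_val fun q hq => by
          have := hperm.subset hq
          simp only [List.map_map, List.mem_map, Function.comp_apply] at this
          obtain ⟨x, -, rfl⟩ := this
          exact Fin.isLt _⟩
      have hS'perm : S'.Perm (M.map g) := (List.map_perm_map_iff Fin.val_injective).1 (hS' ▸ hperm)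
      have hwhole : (S'.reverse ++ [s, r]).Perm (r :: s :: M.map g) := by
        refine ((List.reverse_perm S').trans hS'perm).append_right [s, r] |>.trans ?_
        refine List.perm_append_comm.trans ?_
        exact List.Perm.swap r s _
      have hWP : (S'.reverse ++ [s, r]).Pairwise Orth := by
        refine hwhole.symm.pairwise ?_ (fun {a b} h => ⟨h.2, h.1⟩)
        refine List.pairwise_cons.2 ⟨?_, List.pairwise_cons.2 ⟨?_, hM'⟩⟩
        · intro x hx
          rcases List.mem_cons.1 hx with rfl | hx
          · exact hr _ List.mem_cons_self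
          · obtain ⟨y, hy, rfl⟩ := List.mem_map.1 hx
            exact (hgO (hr y (List.mem_cons_of_mem _ hy))).1
        · intro x hx
          obtain ⟨y, hy, rfl⟩ := List.mem_map.1 hx
          exact (hgO (hs y hy)).1
      have hgoal : ParGoal H.core (S'.reverse ++ [s, r]) := by
        rcases F.oiChk_spec hc S List.filter_sublist hSP with he | ⟨T, hT, hwit⟩
        · refine Or.inl (oiEven_false H ?_)
          rw [List.map_append, List.map_reverse, hS']
          exact he
        · have hT' : T <:+ (S'.reverse ++ [s, r]).map Fin.val := by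
            rw [List.map_append, List.map_reverse, hS']; exact hT
          obtain ⟨P, T', hPT, rfl⟩ : ∃ P T', P ++ T' = S'.reverse ++ [s, r] ∧ T'.map Fin.val = T := by
            obtain ⟨Q, hQ⟩ := hT'
            obtain ⟨P, T', h1, -, h3⟩ := List.map_eq_append_iff.1 hQ.symm
            exact ⟨P, T', h1.symm, h3⟩
          obtain ⟨ρ, β, hβ, hρ, hor⟩ := oiWit_goal H hwit
          rw [← hPT] at hWP ⊢
          exact Or.inr ⟨ρ, β, List.mem_append_right _ hβ, wit_mono hWP hρ, hor⟩
      have h3 : ParGoal H.core ((r :: s :: M).map fun x => if x = r ∨ x = s then x else g x) := by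
        have e : ((r :: s :: M).map fun x => if x = r ∨ x = s then x else g x) = r :: s :: M.map g := by
          simp only [List.map_cons, true_or, or_true, if_true]
          congr 2
          refine List.map_congr_left fun x hx => ?_
          rw [if_neg]
          rintro (rfl | rfl)
          · have := (hr x (List.mem_cons_of_mem _ hx)).1; rw [H.core.pr_self] at this; omega
          · have := (hs x hx).1; rw [H.core.pr_self] at this; omega
        rw [e]
        exact hgoal.perm hwhole
      refine h3.sign fun x => ?_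
      split_ifs
      · exact Or.inl rfl
      · exact hg x
    · intro i r s _ ih M hP
      have hM := horth_w i hP
      simp only [List.map_cons, H.core.w_w] at hM
      have := (ih _ hM).map_w i
      simpa [List.map_cons, List.map_map, Function.comp_def, H.core.w_w] using this

end Cfsg.Agent.Lib.OddInvolutions
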