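import Cfsg.Agent.Lib.OddInvolutions.DPCheck
import Cfsg.Agent.Lib.OddInvolutions.RootCheck
import Cfsg.Agent.Lib.OddInvolutions.DataE8
import Cfsg.Agent.Lib.ChevStructure.Order.CertE8

/-! Kernel certificates for the classes of involutions of type E8. -/

set_option autoImplicit false
set_option maxRecDepth 100000

namespace Cfsg.Agent.Lib.OddInvolutions.CertE8

open Cfsg.Lie Cfsg.Agent.Lib.ChevStructure

theorem dp3_B : Data.E8.fast.dpOK 4294967296 3 DataE8.data DataE8.tabs3_B = true := by
  decide +kernel

theorem dp3_1 : Data.E8.fast.dpOK 1 3 DataE8.data DataE8.tabs3_1 = true := by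
  decide +kernel

end Cfsg.Agent.Lib.OddInvolutions.CertE8
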