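import Cfsg.Agent.Lib.OddInvolutions.DPCheck
import Cfsg.Agent.Lib.OddInvolutions.RootCheck
import Cfsg.Agent.Lib.OddInvolutions.DataE8
import Cfsg.Agent.Lib.OddInvolutions.CertE8DP1
import Cfsg.Agent.Lib.OddInvolutions.CertE8DP3
import Cfsg.Agent.Lib.ChevStructure.Order.CertE8

/-! Kernel certificates for the classes of involutions of type E8. -/

set_option autoImplicit false
set_option maxRecDepth 100000

namespace Cfsg.Agent.Lib.OddInvolutions.CertE8

open Cfsg.Lie Cfsg.Agent.Lib.ChevStructure

theorem rootB : Data.E8.fast.rootOKB = true := by decide +kernel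

theorem mask : Data.E8.fast.maskOK DataE8.VM DataE8.PT = true := by decide +kernel

theorem spreadV : allLt Data.E8.fast.n (Data.E8.fast.spreadVM DataE8.VM) = true := by decide +kernel

theorem spread : Data.E8.fast.spreadOK DataE8.PT DataE8.sp DataE8.nsp = true := by decide +kernel

theorem data : allLt Data.E8.fast.l (fun k => Data.E8.fast.dataOK DataE8.VM DataE8.sp DataE8.nsp (Order.DataE8.reps.getD k [])
    (DataE8.data k)) = true := by decide +kernel

theorem cov : Data.E8.fast.covOK DataE8.VM DataE8.PT [1, 3] DataE8.cov = true := by decide +kernel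

theorem lift1 : Data.E8.fast.liftOK 1 6 = true := by decide +kernel

theorem pos1 : Data.E8.fast.posFix DataE8.VM DataE8.PT 1 = 56 := by decide +kernel

theorem val1_B : DataE8.tabs1_B Data.E8.fast.l 1 = Fast.degProd 4294967296 [2, 4, 6, 8, 10, 12, 14, 8] := by decide +kernel

theorem val1_1 : DataE8.tabs1_1 Data.E8.fast.l 1 = Fast.degProd 1 [2, 4, 6, 8, 10, 12, 14, 8] := by decide +kernel

theorem small1 : Fast.degProd 1 [2, 4, 6, 8, 10, 12, 14, 8] < 4294967296 := by decide +kernel

theorem lift3 : Data.E8.fast.liftOK 3 175 = true := by decide +kernel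

theorem pos3 : Data.E8.fast.posFix DataE8.VM DataE8.PT 3 = 64 := by decide +kernel

theorem val3_B : DataE8.tabs3_B Data.E8.fast.l 3 = Fast.degProd 4294967296 [2, 6, 8, 10, 12, 14, 18, 2] := by decide +kernel

theorem val3_1 : DataE8.tabs3_1 Data.E8.fast.l 3 = Fast.degProd 1 [2, 6, 8, 10, 12, 14, 18, 2] := by decide +kernel

theorem small3 : Fast.degProd 1 [2, 6, 8, 10, 12, 14, 18, 2] < 4294967296 := by decide +kernel

end Cfsg.Agent.Lib.OddInvolutions.CertE8
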