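import Cfsg.Agent.Lib.OddInvolutions.DPCheck
import Cfsg.Agent.Lib.OddInvolutions.RootCheck
import Cfsg.Agent.Lib.OddInvolutions.DataF4
import Cfsg.Agent.Lib.ChevStructure.Order.CertF4

/-! Kernel certificates for the classes of involutions of type F4. -/

set_option autoImplicit false
set_option maxRecDepth 100000

namespace Cfsg.Agent.Lib.OddInvolutions.CertF4

open Cfsg.Lie Cfsg.Agent.Lib.ChevStructure

theorem rootB : Data.F4.fast.rootOKB = true := by decide +kernel

theorem mask : Data.F4.fast.maskOK DataF4.VM DataF4.PT = true := by decide +kernel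

theorem spreadV : allLt Data.F4.fast.n (Data.F4.fast.spreadVM DataF4.VM) = true := by decide +kernel

theorem spread : Data.F4.fast.spreadOK DataF4.PT DataF4.sp DataF4.nsp = true := by decide +kernel

theorem data : allLt Data.F4.fast.l (fun k => Data.F4.fast.dataOK DataF4.VM DataF4.sp DataF4.nsp (Order.DataF4.reps.getD k [])
    (DataF4.data k)) = true := by decide +kernel

theorem cov : Data.F4.fast.covOK DataF4.VM DataF4.PT [1, 4] DataF4.cov = true := by decide +kernel

theorem lift1 : Data.F4.fast.liftOK 1 2 = true := by decide +kernel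

theorem pos1 : Data.F4.fast.posFix DataF4.VM DataF4.PT 1 = 16 := by decide +kernel

theorem dp1_B : Data.F4.fast.dpOK 4294967296 1 DataF4.data DataF4.tabs1_B = true := by
  decide +kernel

theorem dp1_1 : Data.F4.fast.dpOK 1 1 DataF4.data DataF4.tabs1_1 = true := by
  decide +kernel

theorem val1_B : DataF4.tabs1_B Data.F4.fast.l 1 = Fast.degProd 4294967296 [2, 4, 6, 8] := by decide +kernel

theorem val1_1 : DataF4.tabs1_1 Data.F4.fast.l 1 = Fast.degProd 1 [2, 4, 6, 8] := by decide +kernel

theorem small1 : Fast.degProd 1 [2, 4, 6, 8] < 4294967296 := by decide +kernel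

theorem lift4 : Data.F4.fast.liftOK 4 8 = true := by decide +kernel

theorem pos4 : Data.F4.fast.posFix DataF4.VM DataF4.PT 4 = 10 := by decide +kernel

theorem dp4_B : Data.F4.fast.dpOK 4294967296 4 DataF4.data DataF4.tabs4_B = true := by
  decide +kernel

theorem dp4_1 : Data.F4.fast.dpOK 1 4 DataF4.data DataF4.tabs4_1 = true := by
  decide +kernel

theorem val4_B : DataF4.tabs4_B Data.F4.fast.l 4 = Fast.degProd 4294967296 [2, 4, 6, 2] := by decide +kernel

theorem val4_1 : DataF4.tabs4_1 Data.F4.fast.l 4 = Fast.degProd 1 [2, 4, 6, 2] := by decide +kernel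

theorem small4 : Fast.degProd 1 [2, 4, 6, 2] < 4294967296 := by decide +kernel

end Cfsg.Agent.Lib.OddInvolutions.CertF4
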