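import Cfsg.Agent.Lib.ChevStructure.Fast

/-! Data for the classes of involutions of type G2 (generated). -/

set_option autoImplicit false
set_option maxRecDepth 100000
set_option linter.style.longLine false

namespace Cfsg.Agent.Lib.OddInvolutions.DataG2

/-- parity masks of the roots -/
def VM : ℕ := 0x10302030102020103020301

/-- parity table -/
def PT : ℕ := 0x6

/-- row -/
def sp_0 (x : ℕ) : ℕ := (cond (Nat.blt x 2)
  (cond (Nat.blt x 1)
   0x0
   0x1000100)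
  (cond (Nat.blt x 3)
   0x1010000
   0x10100))

/-- table -/
def sp (x : ℕ) : ℕ := (sp_0 (Nat.land x 3))

/-- row -/
def nsp_0 (x : ℕ) : ℕ := (cond (Nat.blt x 2)
  (cond (Nat.blt x 1)
   0x1010101
   0x10001)
  (cond (Nat.blt x 3)
   0x101
   0x1000001))

/-- table -/
def nsp (x : ℕ) : ℕ := (nsp_0 (Nat.land x 3))

/-- data of level 0 -/
def data0 : List (ℕ × ℕ) := [(0x3020100, 0x0),
  (0x1020300, 0x10001)]

/-- data of level 1 -/
def data1 : List (ℕ × ℕ) := [(0x3020100, 0x0),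
  (0x2030100, 0x101),
  (0x1030200, 0x1010002),
  (0x3010200, 0x1010103),
  (0x2010300, 0x1020104),
  (0x1020300, 0x2010205)]

/-- data -/
def data (k : ℕ) : List (ℕ × ℕ) := cond (Nat.beq k 0) data0 (cond (Nat.beq k 1) data1 ([]))

/-- representative and word for each character -/
def cov (k : ℕ) : ℕ × List ℕ := (cond (Nat.blt k 2)
  (cond (Nat.blt k 1)
   ((0, []) : ℕ × List ℕ)
   ((1, []) : ℕ × List ℕ))
  (cond (Nat.blt k 3)
   ((1, [0,1]) : ℕ × List ℕ)
   ((1, [0]) : ℕ × List ℕ)))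

/-- table -/
def tab1_B_0 (s : ℕ) : ℕ :=
  Nat.land (Nat.shiftRight 0x100 (8 * Nat.land s 3)) 0xff

/-- table -/
def tab1_B_1 (s : ℕ) : ℕ :=
  Nat.land (Nat.shiftRight 0x1000100 (8 * Nat.land s 3)) 0xff

/-- table -/
def tab1_B_2 (s : ℕ) : ℕ :=
  Nat.land (Nat.shiftRight 0x10000000200000001010000000200000001010000000200000001000000000000000000 (72 * Nat.land s 3)) 0xffffffffffffffffff

/-- tables -/
def tabs1_B (k s : ℕ) : ℕ := cond (Nat.beq k 0) (tab1_B_0 s) (cond (Nat.beq k 1) (tab1_B_1 s) (cond (Nat.beq k 2) (tab1_B_2 s) (0)))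

/-- table -/
def tab1_1_0 (s : ℕ) : ℕ :=
  Nat.land (Nat.shiftRight 0x100 (8 * Nat.land s 3)) 0xff

/-- table -/
def tab1_1_1 (s : ℕ) : ℕ :=
  Nat.land (Nat.shiftRight 0x1000100 (8 * Nat.land s 3)) 0xff

/-- table -/
def tab1_1_2 (s : ℕ) : ℕ :=
  Nat.land (Nat.shiftRight 0x4040400 (8 * Nat.land s 3)) 0xff

/-- tables -/
def tabs1_1 (k s : ℕ) : ℕ := cond (Nat.beq k 0) (tab1_1_0 s) (cond (Nat.beq k 1) (tab1_1_1 s) (cond (Nat.beq k 2) (tab1_1_2 s) (0)))

end Cfsg.Agent.Lib.OddInvolutions.DataG2
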