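import Cfsg.Agent.Lib.OddInvolutions.DPCheck
import Cfsg.Agent.Lib.OddInvolutions.RootCheck
import Cfsg.Agent.Lib.OddInvolutions.DataG2
import Cfsg.Agent.Lib.ChevStructure.Order.CertG2

/-! Kernel certificates for the classes of involutions of type G2. -/

set_option autoImplicit false
set_option maxRecDepth 100000

namespace Cfsg.Agent.Lib.OddInvolutions.CertG2

open Cfsg.Lie Cfsg.Agent.Lib.ChevStructure

theorem rootB : Data.G2.fast.rootOKB = true := by decide +kernel

theorem mask : Data.G2.fast.maskOK DataG2.VM DataG2.PT = true := by decide +kernel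

theorem spreadV : allLt Data.G2.fast.n (Data.G2.fast.spreadVM DataG2.VM) = true := by decide +kernel

theorem spread : Data.G2.fast.spreadOK DataG2.PT DataG2.sp DataG2.nsp = true := by decide +kernel

theorem data : allLt Data.G2.fast.l (fun k => Data.G2.fast.dataOK DataG2.VM DataG2.sp DataG2.nsp (Order.DataG2.reps.getD k [])
    (DataG2.data k)) = true := by decide +kernel

theorem cov : Data.G2.fast.covOK DataG2.VM DataG2.PT [1] DataG2.cov = true := by decide +kernel

theorem lift1 : Data.G2.fast.liftOK 1 2 = true := by decide +kernel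

theorem pos1 : Data.G2.fast.posFix DataG2.VM DataG2.PT 1 = 2 := by decide +kernel

theorem dp1_B : Data.G2.fast.dpOK 4294967296 1 DataG2.data DataG2.tabs1_B = true := by
  decide +kernel

theorem dp1_1 : Data.G2.fast.dpOK 1 1 DataG2.data DataG2.tabs1_1 = true := by
  decide +kernel

theorem val1_B : DataG2.tabs1_B Data.G2.fast.l 1 = Fast.degProd 4294967296 [2, 2] := by decide +kernel

theorem val1_1 : DataG2.tabs1_1 Data.G2.fast.l 1 = Fast.degProd 1 [2, 2] := by decide +kernel

theorem small1 : Fast.degProd 1 [2, 2] < 4294967296 := by decide +kernel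

end Cfsg.Agent.Lib.OddInvolutions.CertG2
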