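import Cfsg.Agent.Lib.OddInvolutions.DPCheck
import Cfsg.Agent.Lib.OddInvolutions.RootCheck
import Cfsg.Agent.Lib.ChevStructure.Order.TorusCard

/-!
Classes of involutions of a certified Chevalley group in odd characteristic and their centraliser orders.
-/

set_option autoImplicit false
set_option linter.unusedSectionVars false

namespace Cfsg.Agent.Lib.OddInvolutions

open Cfsg.Lie Cfsg.Agent.Lib.ChevStructure
open scoped MatrixGroups Matrix

variable {D : ChevalleyDatum} {F : Fast} (H : Fast.Certified F D) {K : Type*} [Field K]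

/-- The representative of a mask, as an element of the group. -/
noncomputable def repElt (k0 : ℕ) {e : ℕ} (h : F.liftOK k0 e = true) : ↥(D.group K) :=
  ⟨tinv H.core K (cOf D k0), by
    rw [tinv_eq_HT H.core (F := K) _ _ (lift_cOf H h)]
    exact H.core.HT_mem_group _⟩

theorem tinv_mem_diag (k0 : ℕ) {e : ℕ} (h : F.liftOK k0 e = true) :
    tinv H.core K (cOf D k0) ∈ D.diagonalSubgroup K := by
  rw [tinv_eq_HT H.core (F := K) _ _ (lift_cOf H h)]
  exact H.core.HT_mem_diagonal _

theorem two_ne_zero_of_odd [Fintype K] (hF : Odd (Fintype.card K)) : (2 : K) ≠ 0 :=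
  Ring.two_ne_zero fun h =>
    Nat.not_even_iff_odd.2 hF (Nat.even_iff.2 (FiniteField.even_card_of_char_two h))

theorem orderOf_repElt [Fintype K] (hF : Odd (Fintype.card K)) (k0 : ℕ) {e : ℕ} (h : F.liftOK k0 e = true)
    (hk0 : k0 < 2 ^ F.l) (hne : k0 ≠ 0) : orderOf (repElt H (K := K) k0 h) = 2 := by
  refine orderOf_eq_prime (Subtype.ext ?_) fun e1 => hne ?_
  · rw [pow_two]; exact tinv_mul_self H.core _
  · have e2 : tinv H.core K (cOf D k0) = tinv H.core K (0 : Msk D) := by
      rw [tinv_zero]; exact congrArg Subtype.val e1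
    refine cOf_inj H hk0 (Nat.two_pow_pos _) ((tinv_inj H.core (two_ne_zero_of_odd hF) e2).trans ?_)
    funext m
    simp [cOf, toZ]

theorem isConj_repElt [Fintype K] (hF : Odd (Fintype.card K)) (hc : CommOK H.core) (hR : F.rootOKB = true)
    {VM PT : ℕ} (hm : F.maskOK VM PT = true) {reps : List ℕ} {cov : ℕ → ℕ × List ℕ}
    (hcov : F.covOK VM PT reps cov = true) (hr : ∀ r ∈ reps, r < 2 ^ F.l)
    {lift : ℕ → ℕ} (hlift : ∀ r ∈ reps, F.liftOK r (lift r) = true)
    (u : ↥(D.group K)) (hu : orderOf u = 2) :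
    ∃ r, ∃ hr' : r ∈ reps, IsConj u (repElt H r (hlift r hr')) := by
  classical
  have h2 : u.1 * u.1 = 1 := by
    have := congrArg Subtype.val (show u ^ 2 = 1 from hu ▸ pow_orderOf_eq_one u)
    simpa [pow_two] using this
  have h1 : u.1 ≠ 1 := fun e => by
    have : u = 1 := Subtype.ext e
    rw [this, orderOf_one] at hu
    omega
  obtain ⟨c, hcm, x, hx, hxe⟩ := exists_conj_rep hc (rootOK H hR) hF _ (cov_cOf H hm hcov hr) u.2 h2 h1
  obtain ⟨r, hr', rfl⟩ := List.mem_map.1 hcm
  exact ⟨r, hr', isConj_iff.2 ⟨⟨x, hx⟩, Subtype.ext hxe⟩⟩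

theorem card_centralizer_repElt [Fintype K] (hF : Odd (Fintype.card K)) (hc : CommOK H.core)
    {VM PT : ℕ} (hm : F.maskOK VM PT = true) {k0 e : ℕ} (h : F.liftOK k0 e = true)
    {R : List (List (List ℕ))} {T : List (List (List (ℕ × List ℕ)))}
    (hlev : allLt F.l (fun k => F.levelOK k (R.getD k []) (T.getD k [])) = true)
    {data : ℕ → List (ℕ × ℕ)} {sp nsp : ℕ → ℕ}
    (hvm : allLt F.n (F.spreadVM VM) = true) (hsp : F.spreadOK PT sp nsp = true) (hl8 : F.l ≤ 8)
    (hdata : allLt F.l (fun k => F.dataOK VM sp nsp (R.getD k []) (data k)) = true)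
    {tabsB tabs1 : ℕ → ℕ → ℕ} {B : ℕ} {degs : List ℕ}
    (hB : F.dpOK B k0 data tabsB = true) (h1 : F.dpOK 1 k0 data tabs1 = true)
    (vB : tabsB F.l k0 = Fast.degProd B degs) (v1 : tabs1 F.l k0 = Fast.degProd 1 degs)
    (hsmall : Fast.degProd 1 degs < B) {N : ℕ} (hN : F.posFix VM PT k0 = N)
    (hdiag : Nat.card (D.diagonalSubgroup K) = (Fintype.card K - 1) ^ degs.length) :
    Nat.card (Subgroup.centralizer ({repElt H (K := K) k0 h} : Set ↥(D.group K))) =
      Fintype.card K ^ N * (degs.map fun d => Fintype.card K ^ d - 1).prod := by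
  classical
  have hk0 : k0 < 2 ^ F.l := by
    simp only [Fast.dpOK, Bool.and_eq_true, Nat.blt_eq] at h1; exact h1.1.1
  rw [allLt_iff] at hlev hdata
  have hlev' : ∀ k < F.l, H.core.LevelOK k ((R.getD k []).map (toFinL D.rank)) := fun k hk => H.level (hlev k hk)
  have hTB := Tq_dp H hm hlev' hvm hsp hl8 hdata hB
  have hT1 := Tq_dp H hm hlev' hvm hsp hl8 hdata h1
  have hT := Tq_eq_degProd H (hT1.trans v1) hsmall (hTB.trans vB) (Fintype.card K)
  rw [Tq_rank] at hT
  rw [card_centralizer_sub (c := cOf D k0) (repElt H (K := K) k0 h) rfl,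
    card_cGrp hc (two_ne_zero_of_odd hF) _ (tinv_mem_diag H k0 h), pos_fix H hm hk0, hN, hdiag,
    Nat.card_eq_fintype_card, hT, mul_assoc]
  congr 1
  clear hT hT1 hTB v1 vB hsmall hdiag
  induction degs with
  | nil => simp [Fast.degProd]
  | cons d ds ih =>
    rw [List.length_cons, List.map_cons, List.prod_cons, ← ih, Fast.degProd, Fast.degProd, List.map_cons,
      List.prod_cons, pow_succ]
    have hq : 1 ≤ Fintype.card K := Fintype.card_pos
    have e : (Fintype.card K - 1) * ((List.range d).map (Fintype.card K ^ ·)).sum = Fintype.card K ^ d - 1 := by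
      have h := geom_sum_mul_of_one_le hq d
      rw [mul_comm, ← h]
      rfl
    rw [← e]
    ring

/-- A power of q times something prime to q determines the power. -/
theorem pow_mul_ne {q a b : ℕ} (hab : a < b) {A B : ℕ} (hq : 2 ≤ q)
    (hB : ¬ (q ∣ B)) : q ^ b * A ≠ q ^ a * B := by
  intro h
  obtain ⟨c, rfl⟩ := Nat.exists_eq_add_of_le hab.le
  rw [pow_add, mul_assoc] at h
  have h' := Nat.eq_of_mul_eq_mul_left (Nat.pow_pos (by omega)) h
  exact hB (h' ▸ Dvd.dvd.mul_right (dvd_pow_self q (by omega)) _)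

theorem not_dvd_prod {q : ℕ} (hq : 2 ≤ q) : ∀ {degs : List ℕ}, (∀ d ∈ degs, d ≠ 0) →
    ¬ (q ∣ (degs.map fun d => q ^ d - 1).prod) := by
  intro degs hd hdvd
  have : Fact (1 < q) := ⟨hq⟩
  have h0 : (((degs.map fun d => q ^ d - 1).prod : ℕ) : ZMod q) = 0 := (ZMod.natCast_eq_zero_iff _ _).2 hdvd
  rw [Nat.cast_list_prod, List.map_map] at h0
  have hunit : IsUnit ((degs.map (Nat.cast ∘ fun d => q ^ d - 1)).prod : ZMod q) := by
    refine List.prod_induction IsUnit (fun _ _ => IsUnit.mul) isUnit_one ?_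
    intro x hx
    obtain ⟨d, hdm, rfl⟩ := List.mem_map.1 hx
    rw [Function.comp_apply, Nat.cast_sub (Nat.one_le_pow _ _ (by omega)), Nat.cast_pow, ZMod.natCast_self,
      zero_pow (hd d hdm), Nat.cast_one, zero_sub]
    exact isUnit_one.neg
  rw [h0] at hunit
  exact not_isUnit_zero hunit

/-- Conjugate elements have centralisers of the same order. -/
theorem card_centralizer_conj {G : Type*} [Group G] (g : G) {x : G} :
    Nat.card (Subgroup.centralizer ({x} : Set G)) =
      Nat.card (Subgroup.centralizer ({g * x * g⁻¹} : Set G)) := by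
  refine Nat.card_congr ((MulAut.conj g).toEquiv.subtypeEquiv fun y => ?_)
  simp only [Subgroup.mem_centralizer_singleton_iff, MulEquiv.toEquiv_eq_coe, MulEquiv.coe_toEquiv,
    MulAut.conj_apply]
  constructor
  · intro h
    calc g * y * g⁻¹ * (g * x * g⁻¹) = g * (y * x) * g⁻¹ := by group
      _ = g * (x * y) * g⁻¹ := by rw [h]
      _ = _ := by group
  · intro h
    calc y * x = g⁻¹ * (g * y * g⁻¹ * (g * x * g⁻¹)) * g := by group
      _ = g⁻¹ * (g * x * g⁻¹ * (g * y * g⁻¹)) * g := by rw [h]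
      _ = _ := by group

end Cfsg.Agent.Lib.OddInvolutions
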