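import Cfsg.Agent.Lib.ChevStructure.Poincare
import Cfsg.Agent.Lib.OddInvolutions.Centralizer

/-!
The sum Σ q^{#(inv' σ ∩ Φ_t)} over the σ fixing t, computed along the chain of parabolic subgroups.
-/

set_option autoImplicit false
set_option linter.unusedSectionVars false

namespace Cfsg.Agent.Lib.OddInvolutions

open Cfsg.Lie Cfsg.Agent.Lib.ChevStructure

variable {D : ChevalleyDatum} (C : Core D)

/-- The inversion set of a product with a minimal representative. -/
theorem inv'_mul {k : ℕ} {L : List (Fin D.rank)}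
    (hx : ∀ j : Fin D.rank, (j : ℕ) < k → C.pprod L (C.p j) ∈ C.Pos)
    {y : Equiv.Perm (Rt D)} (hy : y ∈ C.WJ k) :
    C.inv' (C.pprod L * y) = C.inv' y ∪ y ⁻¹' C.inv' (C.pprod L) ∧
      Disjoint (C.inv' y) (y ⁻¹' C.inv' (C.pprod L)) := by
  have hsmall : ∀ r ∈ C.Pos, (∀ m : Fin D.rank, k ≤ (m : ℕ) → C.v r m = 0) → C.pprod L r ∈ C.Pos := by
    intro r hr hz
    by_contra hn
    have hneg := (C.neg_iff_not_pos _).2 hn
    refine C.v_ne_zero (C.pprod L r) (funext fun m => le_antisymm (C.v_nonpos hneg m) ?_)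
    rw [C.pprod_v]
    refine Finset.sum_nonneg fun j _ => ?_
    by_cases hj : (j : ℕ) < k
    · exact mul_nonneg (C.v_nonneg hr j) (C.v_nonneg (hx j hj) m)
    · simp [hz j (not_lt.1 hj)]
  have hinv : ∀ r, r ∈ C.inv' y → ∀ m : Fin D.rank, k ≤ (m : ℕ) → C.v r m = 0 := by
    intro r hr m hm
    have h1 := C.v_nonneg hr.1 m
    have h2 := C.v_nonpos hr.2 m
    rw [C.WJ_coord hy r m hm] at h2
    omega
  have hrev : ∀ r, y r.rev = (y r).rev := C.WG_rev ⟨y, C.WJ_le k hy⟩
  refine ⟨?_, Set.disjoint_left.2 fun r h1 h2 => (C.neg_iff_not_pos _).1 h1.2 h2.1⟩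
  ext r
  constructor
  · rintro ⟨hr, hn⟩
    by_cases h : y r ∈ C.Pos
    · exact Or.inr ⟨h, hn⟩
    · exact Or.inl ⟨hr, (C.neg_iff_not_pos _).2 h⟩
  · rintro (hr | ⟨hp, hn⟩)
    · refine ⟨hr.1, ?_⟩
      have h := hsmall (y r).rev (C.rev_pos hr.2) fun m hm => by
        rw [C.v_rev, Pi.neg_apply, C.WJ_coord hy r m hm, hinv r hr m hm, neg_zero]
      rw [C.pprod_rev] at h
      have := C.rev_neg h
      rwa [C.rev_rev] at this
    · refine ⟨?_, hn⟩
      by_contra hc
      have hr' : r.rev ∈ C.inv' y :=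
        ⟨C.rev_pos ((C.neg_iff_not_pos r).2 hc), by rw [hrev]; exact C.rev_neg hp⟩
      refine (C.neg_iff_not_pos _).1 hn (hsmall (y r) hp fun m hm => ?_)
      have := hinv _ hr' m hm
      rw [C.v_rev, Pi.neg_apply, neg_eq_zero] at this
      rw [C.WJ_coord hy r m hm, this]

open scoped Classical in
/-- The partial sum over the first n nodes. -/
noncomputable def Tq (n : ℕ) (q : ℕ) (c0 c : Msk D) : ℕ :=
  ∑ y : C.WJ n, if comp C c (y : Equiv.Perm (Rt D)) = c0 then
    q ^ (C.inv' (y : Equiv.Perm (Rt D)) ∩ Fix C c0).ncard else 0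

/-- The number of inverted roots of a representative that land in roots fixed by `c`. -/
noncomputable def eExp (c : Msk D) (L : List (Fin D.rank)) : ℕ :=
  (C.inv' (C.pprod L) ∩ {r | par C c (C.pprod L r) = 0}).ncard

theorem Tq_zero (q : ℕ) (c0 c : Msk D) [Decidable (c = c0)] : Tq C 0 q c0 c = if c = c0 then 1 else 0 := by
  classical
  have : Subsingleton (C.WJ 0) := by rw [C.WJ_zero]; infer_instance
  rw [Tq, Fintype.sum_subsingleton _ (1 : C.WJ 0), Subgroup.coe_one, comp_one]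
  have : C.inv' (1 : Equiv.Perm (Rt D)) = ∅ :=
    Set.eq_empty_of_forall_notMem fun r hr => (C.neg_iff_not_pos _).1 hr.2 hr.1
  rw [this, Set.empty_inter, Set.ncard_empty, pow_zero]
  split_ifs <;> rfl

theorem Tq_succ {n : ℕ} {R : List (List (Fin D.rank))} (h : C.LevelOK n R) (q : ℕ) (c0 c : Msk D) :
    Tq C (n + 1) q c0 c = (R.map fun L => q ^ eExp C c L * Tq C n q c0 (comp C c (C.pprod L))).sum := by
  classical
  rw [Tq, ← (Equiv.ofBijective _ h.bijective).sum_comp, Fintype.sum_prod_type, ← Fin.sum_univ_fun_getElem]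
  refine Finset.sum_congr rfl fun a _ => ?_
  rw [Tq, Finset.mul_sum]
  refine Finset.sum_congr rfl fun y _ => ?_
  simp only [Equiv.ofBijective_apply, Fin.getElem_fin]
  have hL : C.pprod R[a.1] ∈ C.WG := C.pprod_mem_WG _
  rw [comp_comp C hL]
  split_ifs with hc
  · rw [← pow_add]
    congr 1
    obtain ⟨e, hd⟩ := inv'_mul C (h.pos _ (List.getElem_mem a.2)) y.2
    have hpre : (y : Equiv.Perm (Rt D)) ⁻¹' C.inv' (C.pprod R[a.1]) ∩ Fix C c0 =
        (y : Equiv.Perm (Rt D)) ⁻¹' (C.inv' (C.pprod R[a.1]) ∩ {r | par C c (C.pprod R[a.1] r) = 0}) := by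
      ext r
      have : par C c0 r = par C c (C.pprod R[a.1] ((y : Equiv.Perm (Rt D)) r)) := by
        conv_lhs => rw [← hc]
        rw [par_comp C (mul_mem hL (C.WJ_le n y.2)), Equiv.Perm.mul_apply]
      simp [Fix, this]
    rw [e, Set.union_inter_distrib_right, Set.ncard_union_eq
      (hd.mono Set.inter_subset_left Set.inter_subset_left), hpre,
      Set.ncard_preimage_of_injective_subset_range (y : Equiv.Perm (Rt D)).injective
      (by rw [(y : Equiv.Perm (Rt D)).range_eq_univ]; exact Set.subset_univ _), eExp, add_comm]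
  · rw [mul_zero]

theorem Tq_rank [Fintype C.WG] (q : ℕ) (c : Msk D) :
    Tq C D.rank q c c = ∑ σ : C.WG, if comp C c (σ : Equiv.Perm (Rt D)) = c then
      q ^ (C.inv' (σ : Equiv.Perm (Rt D)) ∩ Fix C c).ncard else 0 := by
  classical
  rw [Tq]
  exact Fintype.sum_equiv (MulEquiv.subgroupCongr C.WJ_rank).toEquiv _ _ fun y => rfl

end Cfsg.Agent.Lib.OddInvolutions
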