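import Cfsg.Agent.Lib.OddInvolutions.Count
import Mathlib.Algebra.Polynomial.BigOperators
import Mathlib.Algebra.Polynomial.Inductions

/-!
Kernel checks for the classes of torus involutions and the sums over their stabilisers in W.
-/

set_option autoImplicit false
set_option linter.unusedSectionVars false

namespace Cfsg.Agent.Lib.ChevStructure.Fast

variable (F : Fast)

/-- The number with given binary digits, least significant first. -/
def bitsL : List Bool → ℕ
  | [] => 0
  | b :: L => cond b 1 0 + 2 * bitsL L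

/-- parity mask of a root -/
def vm (VM r : ℕ) : ℕ := Nat.land (Nat.shiftRight VM (8 * r)) 255

/-- the parity masks and the parity table are right -/
def maskOK (VM PT : ℕ) : Bool :=
  allLt F.n (fun r => allLt F.l fun m => decide (Nat.testBit (vm VM r) m = decide (F.v r m % 2 = 1))) &&
    allLt (2 ^ F.l) fun x =>
      decide (Nat.testBit PT x = (List.range F.l).foldr (fun m a => xor (Nat.testBit x m) a) false)

/-- parity of a character at a root -/
def oiPar (VM PT ψ r : ℕ) : Bool := Nat.testBit PT (Nat.land ψ (vm VM r))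

/-- masks of the images of the fundamental roots -/
def oiImgs (VM : ℕ) (L : List ℕ) : List ℕ := (List.range F.l).map fun m => vm VM (F.actW L (F.p m))

/-- masks of the images of the inverted roots -/
def oiInv (VM : ℕ) (L : List ℕ) : List ℕ :=
  ((List.range F.n).filter fun r => Nat.ble F.half r && Nat.blt (F.actW L r) F.half).map
    fun r => vm VM (F.actW L r)

/-- composition on masks -/
def oiComp (PT ψ : ℕ) (imgs : List ℕ) : ℕ := bitsL (imgs.map fun x => Nat.testBit PT (Nat.land ψ x))

/-- exponent -/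
def oiE (PT ψ : ℕ) (ims : List ℕ) : ℕ := ims.countP fun x => !Nat.testBit PT (Nat.land ψ x)

/-- A function packed into bytes, from `i` on. -/
def pkFrom (f : ℕ → ℕ) : ℕ → ℕ → ℕ
  | 0, _ => 0
  | k + 1, i => f i + 256 * pkFrom f k (i + 1)

/-- The byte at position j. -/
def byteAt (x j : ℕ) : ℕ := Nat.land (Nat.shiftRight x (8 * j)) 255

/-- the tables of parities and their negations, one byte for each character -/
def spreadOK (PT : ℕ) (sp nsp : ℕ → ℕ) : Bool :=
  allLt (2 ^ F.l) fun x =>
    Nat.beq (sp x) (pkFrom (fun ψ => cond (Nat.testBit PT (Nat.land ψ x)) 1 0) (2 ^ F.l) 0) &&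
      Nat.beq (nsp x) (pkFrom (fun ψ => cond (Nat.testBit PT (Nat.land ψ x)) 0 1) (2 ^ F.l) 0)

/-- weighted sum with weights 1, 2, 4, … -/
def sumBits (g : ℕ → ℕ) : List ℕ → ℕ
  | [] => 0
  | x :: L => g x + 2 * sumBits g L

/-- one level of data: a packed composition and a packed exponent for each representative -/
def dataOK (VM : ℕ) (sp nsp : ℕ → ℕ) (R : List (List ℕ)) (Dt : List (ℕ × ℕ)) : Bool :=
  R.all (fun L => L.all fun i => Nat.blt i F.l) && R.all (fun L => Nat.blt L.length 256) &&
    decide (Dt = R.map fun L => (sumBits sp (F.oiImgs VM L), ((F.oiInv VM L).map nsp).sum))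

/-- one step of the recursion -/
def stepB (q : ℕ) (Dt : List (ℕ × ℕ)) (tab tab' : ℕ → ℕ) : Bool :=
  allLt (2 ^ F.l) fun ψ =>
    Nat.beq (tab' ψ) (Dt.foldr (fun d a => q ^ byteAt d.2 ψ * tab (byteAt d.1 ψ) + a) 0)

/-- the whole recursion -/
def dpOK (q k0 : ℕ) (data : ℕ → List (ℕ × ℕ)) (tabs : ℕ → ℕ → ℕ) : Bool :=
  Nat.blt k0 (2 ^ F.l) && allLt (2 ^ F.l) (fun ψ => Nat.beq (tabs 0 ψ) (cond (Nat.beq ψ k0) 1 0)) &&
    allLt F.l fun k => F.stepB q (data k) (tabs k) (tabs (k + 1))

/-- every nonzero character is moved to one of the representatives -/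
def covOK (VM PT : ℕ) (reps : List ℕ) (cov : ℕ → ℕ × List ℕ) : Bool :=
  allLt (2 ^ F.l) fun k => cond (Nat.beq k 0) true
    (reps.any (fun r => Nat.beq r (cov k).1) && (cov k).2.all (fun i => Nat.blt i F.l) &&
      Nat.beq (oiComp PT (cov k).1 (F.oiImgs VM (cov k).2)) k)

/-- a character lifts to the torus -/
def liftOK (k0 e : ℕ) : Bool :=
  allLt F.l fun m => decide (Nat.testBit k0 m =
    (List.range F.l).foldr (fun j a => xor (decide (F.a j (F.p m) % 2 = 1) && Nat.testBit e j) a) false)

/-- parity masks stay below 2^l -/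
def spreadVM (VM r : ℕ) : Bool := Nat.blt (vm VM r) (2 ^ F.l)

/-- number of positive roots at which a character is trivial -/
def posFix (VM PT k0 : ℕ) : ℕ :=
  ((List.range F.n).filter fun r => Nat.ble F.half r).countP fun r => !oiPar VM PT k0 r

/-- the product of the polynomials [d] at q -/
def degProd (q : ℕ) (degs : List ℕ) : ℕ := (degs.map fun d => ((List.range d).map (q ^ ·)).sum).prod

theorem testBit_bitsL : ∀ (L : List Bool) (i : ℕ), Nat.testBit (bitsL L) i = L.getD i false
  | [], i => by simp [bitsL]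
  | b :: L, 0 => by cases b <;> simp [bitsL, Nat.testBit_zero] <;> omega
  | b :: L, i + 1 => by
    rw [Nat.testBit_succ, List.getD_cons_succ, ← testBit_bitsL L i]
    congr 1
    cases b <;> simp [bitsL] <;> omega

theorem bitsL_lt : ∀ (L : List Bool), bitsL L < 2 ^ L.length
  | [] => by simp [bitsL]
  | b :: L => by
    have := bitsL_lt L
    rw [List.length_cons, pow_succ]
    cases b <;> simp only [bitsL, Bool.cond_false, Bool.cond_true] <;> omega

theorem byteAt_pkFrom (f : ℕ → ℕ) : ∀ (k i j : ℕ), j < k → (∀ m < k, f (i + m) < 256) →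
    byteAt (pkFrom f k i) j = f (i + j) := by
  intro k i j hj hb
  have e : byteAt (pkFrom f k i) j = pkFrom f k i / 256 ^ j % 256 := by
    show (pkFrom f k i >>> (8 * j)) &&& 255 = _
    rw [show (255 : ℕ) = 2 ^ 8 - 1 from rfl, Nat.and_two_pow_sub_one_eq_mod, Nat.shiftRight_eq_div_pow, pow_mul]
    norm_num
  rw [e]
  clear e
  induction k generalizing i j with
  | zero => omega
  | succ k ih =>
    have h0 := hb 0 (Nat.succ_pos k)
    rw [add_zero] at h0
    cases j with
    | zero => simp [pkFrom, Nat.mod_eq_of_lt h0]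
    | succ j =>
      rw [pkFrom, pow_succ', ← Nat.div_div_eq_div_mul, Nat.add_mul_div_left _ _ (by norm_num : 0 < 256),
        Nat.div_eq_of_lt h0, zero_add, ih (i + 1) j (by omega) fun m hm => by
          have := hb (m + 1) (by omega); rwa [show i + 1 + m = i + (m + 1) by omega],
        show i + 1 + j = i + (j + 1) by omega]

theorem pkFrom_add (f g : ℕ → ℕ) : ∀ k i, pkFrom f k i + pkFrom g k i = pkFrom (fun x => f x + g x) k i
  | 0, _ => rfl
  | k + 1, i => by rw [pkFrom, pkFrom, pkFrom, ← pkFrom_add f g k (i + 1)]; ring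

theorem pkFrom_mul (c : ℕ) (f : ℕ → ℕ) : ∀ k i, c * pkFrom f k i = pkFrom (fun x => c * f x) k i
  | 0, _ => Nat.mul_zero c
  | k + 1, i => by rw [pkFrom, pkFrom, ← pkFrom_mul c f k (i + 1)]; ring

theorem pkFrom_zero : ∀ k i, pkFrom (fun _ => 0) k i = 0
  | 0, _ => rfl
  | k + 1, i => by rw [pkFrom, pkFrom_zero k (i + 1)]

theorem sumBits_pack (g : ℕ → ℕ) (P : ℕ → ℕ → Bool) (k : ℕ) : ∀ L : List ℕ,
    (∀ x ∈ L, g x = pkFrom (fun ψ => cond (P ψ x) 1 0) k 0) →
    sumBits g L = pkFrom (fun ψ => bitsL (L.map (P ψ))) k 0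
  | [], _ => by simp [sumBits, bitsL, pkFrom_zero]
  | x :: L, h => by
    rw [sumBits, sumBits_pack g P k L fun y hy => h y (List.mem_cons_of_mem _ hy), h x List.mem_cons_self,
      pkFrom_mul, pkFrom_add]
    rfl

theorem sum_pack (g : ℕ → ℕ) (P : ℕ → ℕ → Bool) (k : ℕ) : ∀ L : List ℕ,
    (∀ x ∈ L, g x = pkFrom (fun ψ => cond (P ψ x) 0 1) k 0) →
    (L.map g).sum = pkFrom (fun ψ => L.countP fun x => !P ψ x) k 0
  | [], _ => by simp [pkFrom_zero]
  | x :: L, h => by
    rw [List.map_cons, List.sum_cons, sum_pack g P k L fun y hy => h y (List.mem_cons_of_mem _ hy),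
      h x List.mem_cons_self, pkFrom_add]
    congr 1
    funext ψ
    rw [List.countP_cons]
    cases P ψ x <;> simp <;> omega

end Cfsg.Agent.Lib.ChevStructure.Fast

namespace Cfsg.Agent.Lib.OddInvolutions

open Cfsg.Lie Cfsg.Agent.Lib.ChevStructure

/-- false, true as 0, 1. -/
def toZ (b : Bool) : ZMod 2 := if b then 1 else 0

theorem toZ_xor (a b : Bool) : toZ (xor a b) = toZ a + toZ b := by cases a <;> cases b <;> simp [toZ] <;> rfl

theorem toZ_and (a b : Bool) : toZ (a && b) = toZ a * toZ b := by cases a <;> cases b <;> simp [toZ]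

theorem toZ_inj {a b : Bool} (h : toZ a = toZ b) : a = b := by
  revert h
  cases a <;> cases b <;> decide

theorem toZ_foldr_xor (f : ℕ → Bool) : ∀ L : List ℕ,
    toZ (L.foldr (fun m a => xor (f m) a) false) = (L.map fun m => toZ (f m)).sum
  | [] => by simp [toZ]
  | x :: L => by rw [List.foldr_cons, toZ_xor, toZ_foldr_xor f L, List.map_cons, List.sum_cons]

theorem intCast_eq_toZ (a : ℤ) : (a : ZMod 2) = toZ (decide (a % 2 = 1)) := by
  rcases Int.emod_two_eq_zero_or_one a with h | h
  · simp [h, toZ, ZMod.intCast_zmod_eq_zero_iff_dvd]; omega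
  · simp only [h, decide_true, toZ, if_true]
    have : ((a - 1 : ℤ) : ZMod 2) = 0 := (ZMod.intCast_zmod_eq_zero_iff_dvd _ _).2 (by omega)
    push_cast at this
    linear_combination this

variable {F : Fast} {D : ChevalleyDatum} (H : Fast.Certified F D)

/-- The character of a mask. -/
def cOf (D : ChevalleyDatum) (k : ℕ) : Msk D := fun m => toZ (Nat.testBit k m)

include H

theorem range_sum_fin (f : ℕ → ZMod 2) : ((List.range F.l).map f).sum = ∑ m : Fin D.rank, f m := by
  rw [← H.hl, ← List.map_coe_finRange_eq_range, List.map_map, Fin.sum_univ_def]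
  rfl

theorem cOf_surj (c : Msk D) : ∃ k < 2 ^ F.l, cOf D k = c := by
  refine ⟨Fast.bitsL ((List.finRange D.rank).map fun m => decide (c m = 1)), ?_, funext fun m => ?_⟩
  · refine (Fast.bitsL_lt _).trans_eq ?_
    rw [List.length_map, List.length_finRange, H.hl]
  · simp only [cOf, Fast.testBit_bitsL]
    rw [List.getD_eq_getElem _ _ (by simp)]
    simp only [List.getElem_map, List.getElem_finRange, toZ, decide_eq_true_eq]
    have : ∀ x : ZMod 2, (if x = 1 then (1 : ZMod 2) else 0) = x := by decide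
    simpa using this (c m)

theorem cOf_inj {a b : ℕ} (ha : a < 2 ^ F.l) (hb : b < 2 ^ F.l) (h : cOf D a = cOf D b) : a = b := by
  refine Nat.eq_of_testBit_eq fun i => ?_
  by_cases hi : i < F.l
  · exact toZ_inj (congrFun h ⟨i, H.hl ▸ hi⟩)
  · rw [Nat.testBit_lt_two_pow (ha.trans_le (Nat.pow_le_pow_right two_pos (by omega))),
      Nat.testBit_lt_two_pow (hb.trans_le (Nat.pow_le_pow_right two_pos (by omega)))]

variable {VM PT : ℕ} (hm : F.maskOK VM PT = true)
include hm

theorem par_cOf {ψ : ℕ} (hψ : ψ < 2 ^ F.l) (r : Rt D) :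
    par H.core (cOf D ψ) r = toZ (Fast.oiPar VM PT ψ r.val) := by
  simp only [Fast.maskOK, Bool.and_eq_true, allLt_iff, decide_eq_true_eq] at hm
  have hx : Nat.land ψ (Fast.vm VM r.val) < 2 ^ F.l := lt_of_le_of_lt Nat.and_le_left hψ
  rw [Fast.oiPar, hm.2 _ hx, toZ_foldr_xor, range_sum_fin H]
  refine Finset.sum_congr rfl fun m _ => ?_
  show ((F.v r.val m.val : ℤ) : ZMod 2) * toZ (ψ.testBit m) = toZ ((ψ &&& Fast.vm VM r.val).testBit m)
  rw [Nat.testBit_and, toZ_and, hm.1 r.val (H.lt_n r) m.val (H.lt_l m), intCast_eq_toZ, mul_comm]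

theorem comp_cOf {ψ : ℕ} (hψ : ψ < 2 ^ F.l) {L : List ℕ} (hL : ∀ i ∈ L, i < F.l) :
    comp H.core (cOf D ψ) (H.core.pprod (toFinL D.rank L)) = cOf D (Fast.oiComp PT ψ (F.oiImgs VM L)) ∧
      Fast.oiComp PT ψ (F.oiImgs VM L) < 2 ^ F.l := by
  refine ⟨funext fun m => ?_, (Fast.bitsL_lt _).trans_eq (by simp [Fast.oiImgs])⟩
  simp only [comp, cOf, Fast.oiComp, Fast.oiImgs, List.map_map, Fast.testBit_bitsL]
  rw [List.getD_eq_getElem _ _ (by simpa using H.lt_l m)]
  simp only [List.getElem_map, List.getElem_range, Function.comp_apply]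
  have e := par_cOf H hm hψ (H.core.pprod (toFinL D.rank L) (H.core.p m))
  rw [H.actW_eq, toFinL_val (fun i hi => H.hl ▸ hL i hi), H.p_val] at e
  exact e

theorem eExp_cOf {ψ : ℕ} (hψ : ψ < 2 ^ F.l) {L : List ℕ} (hL : ∀ i ∈ L, i < F.l) :
    eExp H.core (cOf D ψ) (toFinL D.rank L) = Fast.oiE PT ψ (F.oiInv VM L) := by
  classical
  set σ := H.core.pprod (toFinL D.rank L)
  have hσv : ∀ r : Rt D, (σ r).val = F.actW L r.val := fun r => by
    rw [H.actW_eq, toFinL_val (fun i hi => H.hl ▸ hL i hi)]
  have hlist : ((List.finRange D.nroots).filter fun r =>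
      decide (r ∈ H.core.inv' σ ∧ par H.core (cOf D ψ) (σ r) = 0)).length = eExp H.core (cOf D ψ) (toFinL D.rank L) := by
    rw [eExp, ← List.toFinset_card_of_nodup ((List.nodup_finRange _).filter _), ← Set.ncard_coe_finset]
    congr 1
    ext r
    simp [σ]
  rw [← hlist, Fast.oiE, Fast.oiInv, List.countP_map, List.countP_filter, ← H.hn,
    ← List.map_coe_finRange_eq_range, List.countP_map, ← List.countP_eq_length_filter]
  refine List.countP_congr fun r _ => ?_
  have hh := H.half_eq; have hn' := H.hn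
  simp only [Function.comp_apply, decide_eq_true_eq, Bool.and_eq_true, Nat.ble_eq, Nat.blt_eq,
    Bool.not_eq_true', par_cOf H hm hψ, hσv, Core.inv', Set.mem_ofPred_eq, Core.Pos, Core.Neg,
    Fast.oiPar]
  constructor
  · rintro ⟨⟨h1, h2⟩, h3⟩
    refine ⟨?_, by omega, by omega⟩
    cases hb : Nat.testBit PT (Nat.land ψ (Fast.vm VM (F.actW L r.val)))
    · rfl
    · rw [hb] at h3; simp [toZ] at h3
  · rintro ⟨h3, h1, h2⟩
    exact ⟨⟨by omega, by omega⟩, by rw [h3]; rfl⟩

omit hm in
theorem inv_length {L : List ℕ} (hL : ∀ i ∈ L, i < D.rank) :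
    (H.core.inv' (H.core.pprod (toFinL D.rank L))).ncard = (F.oiInv VM L).length := by
  classical
  rw [Fast.oiInv, List.length_map, ← List.countP_eq_length_filter, ← H.hn, ← List.map_coe_finRange_eq_range,
    List.countP_map, List.countP_eq_length_filter,
    ← List.toFinset_card_of_nodup ((List.nodup_finRange _).filter _), ← Set.ncard_coe_finset]
  congr 1
  ext r
  have hh := H.half_eq; have hn' := H.hn
  simp only [Core.inv', Core.Pos, Core.Neg, Set.mem_ofPred_eq, List.coe_toFinset, List.mem_filter,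
    List.mem_finRange, true_and, Function.comp_apply, Bool.and_eq_true, Nat.ble_eq, Nat.blt_eq]
  rw [H.actW_eq, toFinL_val hL]
  omega

theorem Tq_dp {q k0 : ℕ} {R : ℕ → List (List ℕ)} {data : ℕ → List (ℕ × ℕ)} {tabs : ℕ → ℕ → ℕ}
    {sp nsp : ℕ → ℕ}
    (hlev : ∀ k < F.l, H.core.LevelOK k ((R k).map (toFinL D.rank)))
    (hvm : allLt F.n (F.spreadVM VM) = true) (hsp : F.spreadOK PT sp nsp = true) (hl8 : F.l ≤ 8)
    (hdata : ∀ k < F.l, F.dataOK VM sp nsp (R k) (data k) = true) (hdp : F.dpOK q k0 data tabs = true) :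
    Tq H.core D.rank q (cOf D k0) (cOf D k0) = tabs F.l k0 := by
  simp only [Fast.dpOK, Bool.and_eq_true, allLt_iff, Nat.blt_eq] at hdp
  simp only [Fast.spreadOK, Bool.and_eq_true, allLt_iff] at hsp
  rw [allLt_iff] at hvm
  obtain ⟨⟨hk0, hbase⟩, hstep⟩ := hdp
  have key : ∀ n ≤ F.l, ∀ ψ < 2 ^ F.l, Tq H.core n q (cOf D k0) (cOf D ψ) = tabs n ψ := by
    intro n
    induction n with
    | zero =>
      intro _ ψ hψ
      classical
      rw [Tq_zero, Nat.eq_of_beq_eq_true (hbase ψ hψ)]
      by_cases h : ψ = k0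
      · subst h; simp
      · have hb : Nat.beq ψ k0 = false := Bool.eq_false_iff.2 fun e => h (Nat.eq_of_beq_eq_true e)
        rw [hb, if_neg fun e => h (cOf_inj H hψ hk0 e)]
        rfl
    | succ n ih =>
      intro hn ψ hψ
      have hd := hdata n (by omega)
      simp only [Fast.dataOK, Bool.and_eq_true, List.all_eq_true, Nat.blt_eq, decide_eq_true_eq] at hd
      obtain ⟨⟨hletters, hlen⟩, hDt⟩ := hd
      have hs := hstep n (by omega)
      simp only [Fast.stepB, allLt_iff] at hs
      rw [Tq_succ H.core (hlev n (by omega)), Nat.eq_of_beq_eq_true (hs ψ hψ), hDt, List.foldr_map,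
        List.map_map]
      have hredn := (hlev n (by omega)).red
      generalize R n = Ls at hletters hlen hredn
      induction Ls with
      | nil => rfl
      | cons L Ls ih2 =>
        rw [List.map_cons, List.sum_cons, List.foldr_cons,
          ih2 (fun M hM => hletters M (List.mem_cons_of_mem _ hM)) (fun M hM => hlen M (List.mem_cons_of_mem _ hM))
            (fun M hM => hredn M (List.mem_cons_of_mem _ hM))]
        congr 1
        have hL : ∀ i ∈ L, i < F.l := hletters L List.mem_cons_self
        have hL' : ∀ i ∈ L, i < D.rank := fun i hi => H.hl ▸ hL i hi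
        obtain ⟨hc, hlt⟩ := comp_cOf H hm hψ hL
        have hlt256 : ∀ φ, Fast.oiComp PT φ (F.oiImgs VM L) < 256 := fun φ =>
          (Fast.bitsL_lt _).trans_le ((Nat.pow_le_pow_right two_pos (by simpa [Fast.oiImgs] using hl8)).trans_eq
            (by norm_num))
        have hval : ∀ r : Rt D, F.actW L r.val < F.n := fun r => by
          have := H.lt_n (H.core.pprod (toFinL D.rank L) r)
          rwa [H.actW_eq, toFinL_val hL'] at this
        have himg : ∀ x ∈ F.oiImgs VM L, x < 2 ^ F.l := by
          intro x hx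
          simp only [Fast.oiImgs, List.mem_map, List.mem_range] at hx
          obtain ⟨m, hm', rfl⟩ := hx
          have := hvm _ (hval (H.core.p ⟨m, H.hl ▸ hm'⟩))
          simpa [Fast.spreadVM, H.p_val] using this
        have hinv : ∀ x ∈ F.oiInv VM L, x < 2 ^ F.l := by
          intro x hx
          simp only [Fast.oiInv, List.mem_map, List.mem_filter, List.mem_range] at hx
          obtain ⟨r, ⟨hr, -⟩, rfl⟩ := hx
          have := hvm _ (hval ⟨r, H.hn ▸ hr⟩)
          simpa [Fast.spreadVM] using this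
        rw [Function.comp_apply, eExp_cOf H hm hψ hL, hc, ih (by omega) _ hlt]
        simp only []
        rw [Fast.sumBits_pack sp (fun φ x => Nat.testBit PT (Nat.land φ x)) (2 ^ F.l) _
            (fun x hx => Nat.eq_of_beq_eq_true (hsp x (himg x hx)).1),
          Fast.sum_pack nsp (fun φ x => Nat.testBit PT (Nat.land φ x)) (2 ^ F.l) _
            (fun x hx => Nat.eq_of_beq_eq_true (hsp x (hinv x hx)).2)]
        rw [Fast.byteAt_pkFrom _ _ _ _ hψ ?_, Fast.byteAt_pkFrom _ _ _ _ hψ ?_, zero_add]
        · rfl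
        · intro φ _
          rw [zero_add]
          exact hlt256 φ
        · intro φ _
          rw [zero_add]
          refine lt_of_le_of_lt (List.countP_le_length) ?_
          refine lt_of_le_of_lt (le_of_eq ?_) (hlen L List.mem_cons_self)
          have := hredn _ (List.mem_cons_self)
          rw [← toFinL_val hL', List.length_map, ← this, toFinL_val hL', Core.len]
          exact (inv_length H hL').symm
  rw [H.hl]
  exact key F.l le_rfl k0 hk0

omit hm in
theorem lift_cOf {k0 e : ℕ} (h : F.liftOK k0 e = true) (m : Fin D.rank) :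
    ∑ j, (A D j (H.core.p m) : ZMod 2) * cOf D e j = cOf D k0 m := by
  simp only [Fast.liftOK, allLt_iff, decide_eq_true_eq] at h
  show _ = toZ (Nat.testBit k0 m)
  rw [h m.val (H.lt_l m), toZ_foldr_xor, range_sum_fin H]
  refine Finset.sum_congr rfl fun j _ => ?_
  rw [toZ_and, H.A_val, intCast_eq_toZ, H.p_val]
  rfl

theorem cov_cOf {reps : List ℕ} {cov : ℕ → ℕ × List ℕ} (h : F.covOK VM PT reps cov = true)
    (hr : ∀ r ∈ reps, r < 2 ^ F.l) (c : Msk D) (hc : c ≠ 0) :
    ∃ r ∈ reps.map (cOf D), ∃ σ ∈ H.core.WG, comp H.core r σ = c := by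
  obtain ⟨k, hk, rfl⟩ := cOf_surj H c
  simp only [Fast.covOK, allLt_iff] at h
  have h1 := h k hk
  have hk0 : Nat.beq k 0 = false := Bool.eq_false_iff.2 fun e => hc (by
    rw [Nat.eq_of_beq_eq_true e]; funext m; simp [cOf, toZ])
  rw [hk0, Bool.cond_false, Bool.and_eq_true, Bool.and_eq_true, List.any_eq_true, List.all_eq_true] at h1
  obtain ⟨⟨⟨r, hr', hre⟩, hw⟩, hkk⟩ := h1
  have hre' := Nat.eq_of_beq_eq_true hre
  subst hre'
  have hL : ∀ i ∈ (cov k).2, i < F.l := fun i hi => by simpa using hw i hi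
  refine ⟨_, List.mem_map_of_mem hr', _, H.core.pprod_mem_WG (toFinL D.rank (cov k).2), ?_⟩
  rw [(comp_cOf H hm (hr _ hr') hL).1, Nat.eq_of_beq_eq_true hkk]

theorem pos_fix {k0 : ℕ} (hk0 : k0 < 2 ^ F.l) :
    (H.core.Pos ∩ Fix H.core (cOf D k0)).ncard = F.posFix VM PT k0 := by
  classical
  have hlist : ((List.finRange D.nroots).filter fun r =>
      decide (r ∈ H.core.Pos ∧ par H.core (cOf D k0) r = 0)).length =
      (H.core.Pos ∩ Fix H.core (cOf D k0)).ncard := by
    rw [← List.toFinset_card_of_nodup ((List.nodup_finRange _).filter _), ← Set.ncard_coe_finset]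
    congr 1
    ext r
    simp [Fix]
  rw [← hlist, Fast.posFix, List.countP_filter, ← H.hn, ← List.map_coe_finRange_eq_range, List.countP_map,
    ← List.countP_eq_length_filter]
  refine List.countP_congr fun r _ => ?_
  have hh := H.half_eq; have hn' := H.hn
  simp only [Function.comp_apply, decide_eq_true_eq, Bool.and_eq_true, Nat.ble_eq, Bool.not_eq_true',
    par_cOf H hm hk0, Core.Pos, Set.mem_ofPred_eq]
  constructor
  · rintro ⟨h1, h3⟩
    refine ⟨?_, by omega⟩
    cases hb : Fast.oiPar VM PT k0 r.val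
    · rfl
    · rw [hb] at h3; simp [toZ] at h3
  · rintro ⟨h3, h1⟩
    exact ⟨by omega, by rw [h3]; rfl⟩

omit hm H in
/-- Two polynomials with small coefficients agree if they agree at the bound. -/
theorem poly_eq_of_eval {B : ℕ} (P : Polynomial ℕ) : ∀ Q : Polynomial ℕ,
    P.eval 1 < B → Q.eval 1 < B → P.eval B = Q.eval B → P = Q := by
  induction P using Polynomial.recOnHorner with
  | M0 =>
    intro Q hP hQ h
    rw [Polynomial.eval_zero] at h
    refine (Polynomial.ext fun i => ?_).symm
    have h2 : Q.eval B = ∑ j ∈ Q.support, Q.coeff j * B ^ j := Polynomial.eval_eq_sum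
    rw [← h] at h2
    have hB : 0 < B := by rw [Polynomial.eval_zero] at hP; exact hP
    by_contra hne
    have hi : i ∈ Q.support := Polynomial.mem_support_iff.2 (by simpa using hne)
    have := (Finset.sum_eq_zero_iff.1 h2.symm) i hi
    rcases Nat.mul_eq_zero.1 this with h0 | h0
    · exact hne (by simpa using h0)
    · exact absurd (pow_eq_zero_iff'.1 h0).1 (by omega)
  | MC p a hp0 ha ih =>
    intro Q hP hQ h
    obtain ⟨p', rfl⟩ : Polynomial.X ∣ p := Polynomial.X_dvd_iff.2 hp0
    have hd := Polynomial.X_mul_divX_add Q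
    have e1 : (Polynomial.X * p' + Polynomial.C a).eval B = B * p'.eval B + a := by simp
    have e2 : Q.eval B = B * Q.divX.eval B + Q.coeff 0 := by
      conv_lhs => rw [← hd]
      simp
    have s1 : p'.eval 1 + a < B := by simpa using hP
    have s2 : Q.divX.eval 1 + Q.coeff 0 < B := by
      have : Q.eval 1 = Q.divX.eval 1 + Q.coeff 0 := by
        conv_lhs => rw [← hd]
        simp
      omega
    rw [e1, e2] at h
    have ha' : a = Q.coeff 0 := by
      have := congrArg (· % B) h
      simp only [Nat.mul_add_mod] at this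
      rwa [Nat.mod_eq_of_lt (by omega), Nat.mod_eq_of_lt (by omega)] at this
    subst ha'
    have h' : (Polynomial.X * p').eval B = (Polynomial.X * Q.divX).eval B := by
      simp only [Polynomial.eval_mul, Polynomial.eval_X]; omega
    have := ih (Polynomial.X * Q.divX) (by simp; omega) (by simp; omega) h'
    rw [this]
    exact hd
  | MX p hp ih =>
    intro Q hP hQ h
    have hd := Polynomial.X_mul_divX_add Q
    have e2 : Q.eval B = B * Q.divX.eval B + Q.coeff 0 := by
      conv_lhs => rw [← hd]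
      simp
    have s2 : Q.divX.eval 1 + Q.coeff 0 < B := by
      have : Q.eval 1 = Q.divX.eval 1 + Q.coeff 0 := by
        conv_lhs => rw [← hd]
        simp
      omega
    rw [e2, Polynomial.eval_mul, Polynomial.eval_X] at h
    have h0 : Q.coeff 0 = 0 := by
      have := congrArg (· % B) h
      simp only [Nat.mul_add_mod, Nat.mul_mod_left] at this
      rw [Nat.mod_eq_of_lt (by omega)] at this
      omega
    rw [h0, add_zero, mul_comm] at h
    have h' := Nat.eq_of_mul_eq_mul_left (show 0 < B by omega) h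
    rw [ih Q.divX (by simpa using hP) (by omega) h']
    conv_rhs => rw [← hd, h0]
    simp [mul_comm]

omit hm H in
theorem degProd_eval (degs : List ℕ) (x : ℕ) :
    Polynomial.eval x ((degs.map fun d => ∑ i ∈ Finset.range d, (Polynomial.X : Polynomial ℕ) ^ i).prod) =
      Fast.degProd x degs := by
  rw [Polynomial.eval_list_prod, Fast.degProd, List.map_map]
  refine congrArg List.prod (List.map_congr_left fun d _ => ?_)
  rw [Function.comp_apply, ← Polynomial.coe_evalRingHom, map_sum, Finset.sum, Finset.range_val,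
    Multiset.range, Multiset.map_coe, Multiset.sum_coe]
  simp

open scoped Classical in
omit hm in
/-- Agreement at two values gives agreement at all values. -/
theorem Tq_eq_degProd {k0 : ℕ} {B : ℕ} {degs : List ℕ}
    (h1 : Tq H.core D.rank 1 (cOf D k0) (cOf D k0) = Fast.degProd 1 degs)
    (hlt : Fast.degProd 1 degs < B)
    (hB : Tq H.core D.rank B (cOf D k0) (cOf D k0) = Fast.degProd B degs) (q : ℕ) :
    Tq H.core D.rank q (cOf D k0) (cOf D k0) = Fast.degProd q degs := by
  let P : Polynomial ℕ := ∑ y : H.core.WJ D.rank,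
    if comp H.core (cOf D k0) (y : Equiv.Perm (Rt D)) = cOf D k0 then
      Polynomial.X ^ (H.core.inv' (y : Equiv.Perm (Rt D)) ∩ Fix H.core (cOf D k0)).ncard else 0
  have hP : ∀ x, P.eval x = Tq H.core D.rank x (cOf D k0) (cOf D k0) := by
    intro x
    simp only [P, Tq, Polynomial.eval_finsetSum]
    refine Finset.sum_congr rfl fun y _ => ?_
    split_ifs <;> simp
  let T : Polynomial ℕ := (degs.map fun d => ∑ i ∈ Finset.range d, (Polynomial.X : Polynomial ℕ) ^ i).prod
  have hT : ∀ x, T.eval x = Fast.degProd x degs := degProd_eval degs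
  have e : P = T := poly_eq_of_eval P T (by rw [hP, h1]; exact hlt) (by rw [hT]; exact hlt) (by rw [hP, hT, hB])
  rw [← hP, e, hT]

end Cfsg.Agent.Lib.OddInvolutions
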