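import Cfsg.Agent.Lib.OddInvolutions.SL2Pair
import Cfsg.Agent.Lib.OddInvolutions.CertG2

/-!
Involutions of G₂(q), q odd.
-/

set_option autoImplicit false
set_option maxRecDepth 100000

namespace Cfsg.Agent.Lib.OddInvolutions.G2

open Cfsg.Lie Cfsg.Agent.Lib.ChevStructure
open scoped MatrixGroups Matrix

variable {F : Type*} [Field F]

/-- The representative. -/
noncomputable def rep : ↥(chevG2.group F) := repElt Cert.G2.certified 1 CertG2.lift1

variable [Fintype F] (hF : Odd (Fintype.card F))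
include hF

theorem isConj_rep (u : ↥(chevG2.group F)) (hu : orderOf u = 2) : IsConj u rep := by
  obtain ⟨r, hr, hconj⟩ := isConj_repElt Cert.G2.certified hF commOK_G2 CertG2.rootB CertG2.mask CertG2.cov
    (by decide) (lift := fun _ => 2)
    (fun r hr => by obtain rfl := List.mem_singleton.1 hr; exact CertG2.lift1) u hu
  obtain rfl := List.mem_singleton.1 hr
  exact hconj

theorem card_centralizer_rep :
    Nat.card (Subgroup.centralizer ({rep} : Set ↥(chevG2.group F))) =
      Fintype.card F ^ 2 * (Fintype.card F ^ 2 - 1) ^ 2 := by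
  have hdiag : Nat.card (chevG2.diagonalSubgroup F) = (Fintype.card F - 1) ^ ([2, 2] : List ℕ).length := by
    have h := Order.CertG2.card_diagonal (K := F) (q := Fintype.card F) rfl
    rw [Finset.prod_eq_one, one_mul] at h
    · exact h
    · intro i _
      have : ∀ j < 2, Order.DataTorus.dG2.getD j 0 = 1 := by decide
      rw [this i.val i.isLt, Nat.gcd_one_right]
  refine (card_centralizer_repElt Cert.G2.certified (K := F) hF commOK_G2 CertG2.mask CertG2.lift1
    Order.CertG2.levels CertG2.spreadV CertG2.spread (by decide) CertG2.data CertG2.dp1_B CertG2.dp1_1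
    CertG2.val1_B CertG2.val1_1 CertG2.small1 CertG2.pos1 hdiag).trans ?_
  simp; ring

theorem sl2_pair :
    ∃ ψ₁ ψ₂ : SL(2, F) →* ↥(chevG2.group F), Function.Injective ψ₁ ∧ Function.Injective ψ₂ ∧
      (∀ a b, Commute (ψ₁ a) (ψ₂ b)) ∧ ψ₁ (-1) = rep ∧ ψ₂ (-1) = rep := by
  let β : Rt chevG2 := (⟨6, by decide⟩ : Fin chevG2.nroots)
  let γ : Rt chevG2 := (⟨9, by decide⟩ : Fin chevG2.nroots)
  have H := Cert.G2.certified
  have hodd : ∀ x ∈ [6, 9], allLt Data.G2.fast.n (fun s => decide (decide (Data.G2.fast.pr x s % 2 = 1) =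
      Fast.oiPar DataG2.VM DataG2.PT 1 s)) = true := by decide +kernel
  have hone : Data.G2.fast.pr 6 0 = -1 ∧ Data.G2.fast.pr 9 3 = -1 ∧ Data.G2.fast.pr 6 9 = 0 ∧
      Data.G2.fast.pr 9 6 = 0 := by decide +kernel
  have hnc : allLt Data.G2.fast.n (fun q => decide ((-2 < Data.G2.fast.pr 6 q ∧ Data.G2.fast.pr 6 q < 2) ∨
      (-2 < Data.G2.fast.pr 9 q ∧ Data.G2.fast.pr 9 q < 2))) = true := by decide +kernel
  have hne69 : γ ≠ β ∧ γ ≠ β.rev := by decide
  set C := Cert.G2.core
  have prv : ∀ r s : Rt chevG2, pr chevG2 r s = Data.G2.fast.pr r.val s.val :=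
    Cert.G2.certified.pr_val
  have hrep : ∀ r : Rt chevG2, r.val ∈ [6, 9] → Core.hD F r (-1) = (rep : ↥(chevG2.group F)).1 := by
    intro r hr
    show _ = tinv C F (cOf chevG2 1)
    rw [Core.hD, tinv]
    congr 1
    funext s
    have h1 := hodd _ hr
    rw [allLt_iff] at h1
    have h2 := of_decide_eq_true (h1 s.val (Cert.G2.certified.lt_n s))
    have hp := par_cOf Cert.G2.certified CertG2.mask (show 1 < 2 ^ Data.G2.fast.l by decide) s
    rw [show par C (cOf chevG2 1) s = _ from hp, ← h2, ← intCast_eq_toZ, prv]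
    rcases Int.even_or_odd (Data.G2.fast.pr r.val s.val) with he | he
    · rw [he.neg_one_zpow, (ZMod.intCast_zmod_eq_zero_iff_dvd _ 2).2 (by exact_mod_cast he.two_dvd)]
      simp [sgn]
    · rw [he.neg_one_zpow, sgn, if_neg]
      intro h0
      have := (ZMod.intCast_zmod_eq_zero_iff_dvd _ 2).1 h0
      exact Int.not_even_iff_odd.2 he (even_iff_two_dvd.2 (by exact_mod_cast this))
  have ho : Orth β γ := ⟨by rw [prv]; exact hone.2.2.1, by rw [prv]; exact hone.2.2.2⟩
  have key : ∀ b c : Rt chevG2, (b = β ∨ b = β.rev) → (c = γ ∨ c = γ.rev) → ∀ (q : Rt chevG2) (i j : ℕ),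
      1 ≤ i → 1 ≤ j → C.v q ≠ (i : ℤ) • C.v b + (j : ℤ) • C.v c := by
    intro b c hb hc q i j hi hj hv
    rw [allLt_iff] at hnc
    have h := of_decide_eq_true (hnc q.val (Cert.G2.certified.lt_n q))
    have e1 : pr chevG2 b q = 2 * i := by
      have hbc : pr chevG2 b c = 0 := by
        rcases hb with rfl | rfl <;> rcases hc with rfl | rfl <;> simp [C.pr_rev, pr_rev_right C, ho.1]
      rw [← prV_v C, hv, map_add, map_zsmul, map_zsmul, prV_v C, prV_v C, hbc, C.pr_self]
      simp [mul_comm]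
    have e2 : pr chevG2 c q = 2 * j := by
      have hbc : pr chevG2 c b = 0 := by
        rcases hb with rfl | rfl <;> rcases hc with rfl | rfl <;> simp [C.pr_rev, pr_rev_right C, ho.2]
      rw [← prV_v C, hv, map_add, map_zsmul, map_zsmul, prV_v C, prV_v C, hbc, C.pr_self]
      simp [mul_comm]
    have eβ : pr chevG2 β q = Data.G2.fast.pr 6 q.val := prv β q
    have eγ : pr chevG2 γ q = Data.G2.fast.pr 9 q.val := prv γ q
    rcases hb with rfl | rfl <;> rcases hc with rfl | rfl <;>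
      (try simp only [C.pr_rev] at e1 e2) <;> omega
  have hc4 : Comm4 C F β γ := by
    intro t u
    refine ⟨(commute_X_of_no_combo commOK_G2 hne69.1 hne69.2 (key β γ (.inl rfl) (.inl rfl)) t u).symm,
      (commute_X_of_no_combo commOK_G2 hne69.2 ?_ (key β.rev γ (.inr rfl) (.inl rfl)) t u).symm,
      (commute_X_of_no_combo commOK_G2 ?_ ?_ (key β γ.rev (.inl rfl) (.inr rfl)) t u).symm,
      (commute_X_of_no_combo commOK_G2 ?_ ?_ (key β.rev γ.rev (.inr rfl) (.inr rfl)) t u).symm⟩ <;> decide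
  obtain ⟨φ₁, i1, r1, m1⟩ := exists_slHom_injective (F := F) commOK_G2 (r := β) (show β ∈ C.Pos by
    show chevG2.nroots ≤ 2 * 6; decide) (s := (⟨0, by decide⟩ : Fin chevG2.nroots))
    (Or.inr ((prv _ _).trans hone.1))
  obtain ⟨φ₂, i2, r2, m2⟩ := exists_slHom_injective (F := F) commOK_G2 (r := γ) (show γ ∈ C.Pos by
    show chevG2.nroots ≤ 2 * 9; decide) (s := (⟨3, by decide⟩ : Fin chevG2.nroots))
    (Or.inr ((prv _ _).trans hone.2.1))
  have hin : ∀ (r : Rt chevG2) (φ : SL(2, F) →* GL chevG2.Idx F), φ.range = C.US F {r} ⊔ C.US F {r.rev} →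
      ∀ g, φ g ∈ chevG2.group F := fun r φ hr g => by
    have h : φ g ∈ C.US F {r} ⊔ C.US F {r.rev} := hr ▸ ⟨g, rfl⟩
    exact (sup_le (C.US_le_group _) (C.US_le_group _)) h
  refine ⟨φ₁.codRestrict _ (hin β φ₁ r1), φ₂.codRestrict _ (hin γ φ₂ r2),
    fun a b h => i1 (congrArg Subtype.val h), fun a b h => i2 (congrArg Subtype.val h), fun a b => ?_,
    Subtype.ext (m1.trans (hrep β (by simp [β]))), Subtype.ext (m2.trans (hrep γ (by simp [γ])))⟩
  exact Subtype.ext (commute_of_comm4 hc4 (r1 ▸ ⟨a, rfl⟩) (r2 ▸ ⟨b, rfl⟩)).eq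

end Cfsg.Agent.Lib.OddInvolutions.G2
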