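import Cfsg.Agent.Lib.OddInvolutions.Classes
import Cfsg.Agent.Lib.Linear.Order

/-!
Two commuting copies of SL₂ with a common central involution.
-/

set_option autoImplicit false
set_option linter.unusedSectionVars false

namespace Cfsg.Agent.Lib.OddInvolutions

open Cfsg.Lie Cfsg.Agent.Lib.ChevStructure
open scoped MatrixGroups Matrix

theorem sl2_central {F : Type*} [Field F] {g : SL(2, F)} (hU : g * slU 1 = slU 1 * g)
    (hL : g * slL 1 = slL 1 * g) : g = 1 ∨ g = -1 := by
  obtain ⟨a, b, c, d, hg⟩ : ∃ a b c d : F, (g : Matrix (Fin 2) (Fin 2) F) = !![a, b; c, d] :=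
    ⟨_, _, _, _, Matrix.eta_fin_two _⟩
  have hdet : a * d - b * c = 1 := by
    have := g.2
    rwa [hg, Matrix.det_fin_two_of] at this
  have e1 := congrArg (fun x : SL(2, F) => (x : Matrix (Fin 2) (Fin 2) F)) hU
  have e2 := congrArg (fun x : SL(2, F) => (x : Matrix (Fin 2) (Fin 2) F)) hL
  simp only [Matrix.SpecialLinearGroup.coe_mul, slU_val, slL_val, hg, Matrix.mul_fin_two, mul_one, mul_zero,
    one_mul, zero_mul, add_zero, zero_add] at e1 e2
  have p00 := congrFun (congrFun e1 0) 0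
  have p01 := congrFun (congrFun e1 0) 1
  have q00 := congrFun (congrFun e2 0) 0
  simp at p00 p01 q00
  have hc : c = 0 := p00
  have hb : b = 0 := q00
  have hd : a = d := by linear_combination p01
  subst hc hb hd
  rw [mul_zero, sub_zero] at hdet
  rcases mul_self_eq_one_iff.1 hdet with rfl | rfl
  · exact Or.inl (Subtype.ext (hg.trans (by simp [Matrix.one_fin_two])))
  · exact Or.inr (Subtype.ext (hg.trans (by simp [Matrix.one_fin_two, Matrix.SpecialLinearGroup.coe_neg])))

section Pair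

variable {F : Type*} [Field F] [Fintype F] {G : Type*} [Group G] [Finite G]

theorem pair_data (hF : Odd (Fintype.card F)) {t : G} (ψ₁ ψ₂ : SL(2, F) →* G)
    (h1 : Function.Injective ψ₁) (h2 : Function.Injective ψ₂) (hc : ∀ a b, Commute (ψ₁ a) (ψ₂ b))
    (e1 : ψ₁ (-1) = t) (e2 : ψ₂ (-1) = t)
    (hcard : Nat.card (Subgroup.centralizer ({t} : Set G)) =
      Fintype.card F ^ 2 * (Fintype.card F ^ 2 - 1) ^ 2) :
    ∃ L₁ L₂ : Subgroup G, Nonempty (L₁ ≃* SL(2, F)) ∧ Nonempty (L₂ ≃* SL(2, F)) ∧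
      (∀ x ∈ L₁, ∀ y ∈ L₂, x * y = y * x) ∧ L₁ ⊓ L₂ = Subgroup.zpowers t ∧
      L₁ ⊔ L₂ ≤ Subgroup.centralizer ({t} : Set G) ∧
      (L₁ ⊔ L₂).relIndex (Subgroup.centralizer ({t} : Set G)) = 2 := by
  classical
  have two : (2 : F) ≠ 0 := two_ne_zero_of_odd hF
  have hne : (1 : SL(2, F)) ≠ -1 := by
    intro h
    have := congrArg (fun x : SL(2, F) => (x : Matrix (Fin 2) (Fin 2) F) 0 0) h
    simp [Matrix.SpecialLinearGroup.coe_neg] at this
    exact two (by linear_combination this)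
  have hsqr : (-1 : SL(2, F)) * -1 = 1 := Subtype.ext (by simp [Matrix.SpecialLinearGroup.coe_neg])
  have hinv : (-1 : SL(2, F))⁻¹ = -1 := inv_eq_of_mul_eq_one_right hsqr
  have central : ∀ (a : SL(2, F)), (∀ b, Commute (ψ₁ a) (ψ₁ b)) → a = 1 ∨ a = -1 := fun a ha =>
    sl2_central (h1 (by simpa using (ha (slU 1)).eq)) (h1 (by simpa using (ha (slL 1)).eq))
  have meet : ∀ a b, ψ₁ a = ψ₂ b → (a = 1 ∧ b = 1) ∨ (a = -1 ∧ b = -1) := by
    intro a b h
    rcases central a (fun c => by rw [h]; exact (hc c b).symm) with rfl | rfl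
    · exact Or.inl ⟨rfl, h2 (by rw [map_one, ← h, map_one])⟩
    · exact Or.inr ⟨rfl, h2 (by rw [← h, e1, e2])⟩
  refine ⟨ψ₁.range, ψ₂.range, ⟨(MonoidHom.ofInjective h1).symm⟩, ⟨(MonoidHom.ofInjective h2).symm⟩, ?_, ?_, ?_, ?_⟩
  · rintro _ ⟨a, rfl⟩ _ ⟨b, rfl⟩
    exact hc a b
  · refine le_antisymm ?_ (Subgroup.zpowers_le.2 ⟨⟨-1, e1⟩, ⟨-1, e2⟩⟩)
    rintro _ ⟨⟨a, rfl⟩, ⟨b, hb⟩⟩
    rcases meet a b hb.symm with ⟨rfl, -⟩ | ⟨rfl, -⟩
    · rw [map_one]; exact one_mem _
    · rw [e1]; exact Subgroup.mem_zpowers t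
  · refine sup_le ?_ ?_ <;> rintro _ ⟨a, rfl⟩ <;> rw [Subgroup.mem_centralizer_singleton_iff]
    · rw [← e2]; exact hc a (-1)
    · rw [← e1]; exact (hc (-1) a).symm.eq
  · let ψ : SL(2, F) × SL(2, F) →* G := ψ₁.noncommCoprod ψ₂ hc
    have hψr : ψ.range = ψ₁.range ⊔ ψ₂.range := MonoidHom.noncommCoprod_range ψ₁ ψ₂ hc
    have hker : (ψ.ker : Set (SL(2, F) × SL(2, F))) = {(1, 1), (-1, -1)} := by
      ext ⟨a, b⟩
      simp only [SetLike.mem_coe, MonoidHom.mem_ker, ψ, MonoidHom.noncommCoprod_apply, Set.mem_insert_iff,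
        Set.mem_singleton_iff, Prod.mk.injEq]
      constructor
      · intro h
        rw [mul_eq_one_iff_eq_inv, ← map_inv] at h
        rcases meet a b⁻¹ h with ⟨rfl, hb⟩ | ⟨rfl, hb⟩
        · exact Or.inl ⟨rfl, inv_eq_one.1 hb⟩
        · exact Or.inr ⟨rfl, by rw [← inv_inv b, hb, hinv]⟩
      · rintro (⟨rfl, rfl⟩ | ⟨rfl, rfl⟩)
        · simp
        · rw [e1, ← e2, ← map_mul, hsqr, map_one]
    have hkc : Nat.card ψ.ker = 2 := by
      rw [show Nat.card ψ.ker = (ψ.ker : Set (SL(2, F) × SL(2, F))).ncard from (Nat.card_coe_set_eq _), hker,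
        Set.ncard_pair]
      simp [hne]
    have hq : 2 ≤ Fintype.card F := Fintype.one_lt_card
    have hrange : Nat.card ψ.range * 2 = (Fintype.card F * (Fintype.card F ^ 2 - 1)) ^ 2 := by
      calc Nat.card ψ.range * 2 = ψ.ker.index * Nat.card ψ.ker := by rw [hkc, Subgroup.index_ker]
        _ = Nat.card (SL(2, F) × SL(2, F)) := Subgroup.index_mul_card _
        _ = _ := by
          rw [Nat.card_prod, Lib.Linear.card_SL_two]
          have e : Fintype.card F ^ 2 - 1 = (Fintype.card F - 1) * (Fintype.card F + 1) := by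
            rw [mul_comm]; simpa using Nat.sq_sub_sq (Fintype.card F) 1
          rw [e]; ring
    rw [← hψr]
    have hle : ψ.range ≤ Subgroup.centralizer ({t} : Set G) := by
      rw [hψr]
      refine sup_le ?_ ?_ <;> rintro _ ⟨a, rfl⟩ <;> rw [Subgroup.mem_centralizer_singleton_iff]
      · rw [← e2]; exact hc a (-1)
      · rw [← e1]; exact (hc (-1) a).symm.eq
    have hidx : (ψ.range).relIndex (Subgroup.centralizer ({t} : Set G)) * Nat.card ψ.range =
        Nat.card (Subgroup.centralizer ({t} : Set G)) := by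
      rw [← Subgroup.relIndex_bot_left, ← Subgroup.relIndex_bot_left, mul_comm,
        Subgroup.relIndex_mul_relIndex ⊥ _ _ bot_le hle]
    have hR : 0 < Nat.card ψ.range := Nat.card_pos
    rw [hcard, show Fintype.card F ^ 2 * (Fintype.card F ^ 2 - 1) ^ 2 = Nat.card ψ.range * 2 by
      rw [hrange, mul_pow], mul_comm] at hidx
    exact Nat.eq_of_mul_eq_mul_left hR hidx

end Pair

variable {D : ChevalleyDatum} {C : Core D} {F : Type*} [Field F] (H : CommOK C)

include H in
/-- The homomorphism of a positive root with a pairing ±1 is injective. -/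
theorem exists_slHom_injective {r : Rt D} (hr : r ∈ C.Pos) {s : Rt D}
    (hs : pr D r s = 1 ∨ pr D r s = -1) :
    ∃ φ : SL(2, F) →* GL D.Idx F, Function.Injective φ ∧
      φ.range = C.US F {r} ⊔ C.US F {r.rev} ∧ φ (-1) = Core.hD F r (-1) := by
  obtain ⟨φ, hφr, hφ⟩ := C.exists_slHom F r
  have hφN : ∀ u : Fˣ, φ (slN u) = C.nR F r u := fun u => by
    rw [slN, map_mul, map_mul, (hφ _).1, (hφ _).2]; rfl
  have hφH : ∀ u : Fˣ, φ (slH u) = Core.hD F r u := fun u => by
    rw [slH, map_mul, hφN, hφN, C.hR_eq]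
  refine ⟨φ, (injective_iff_map_eq_one φ).2 fun g hg => ?_, hφr, ?_⟩
  · obtain ⟨g, hdet⟩ := g
    obtain ⟨a, b, c, d, rfl⟩ : ∃ a b c d : F, g = !![a, b; c, d] := ⟨_, _, _, _, Matrix.eta_fin_two g⟩
    rw [Matrix.det_fin_two_of] at hdet
    by_cases hc : c = 0
    · subst hc
      rw [mul_zero, sub_zero] at hdet
      let u : Fˣ := ⟨a, d, hdet, by rw [mul_comm]; exact hdet⟩
      have e : (⟨!![a, b; 0, d], by rw [Matrix.det_fin_two_of]; linear_combination hdet⟩ : SL(2, F)) =
          slU (a * b) * slH u := by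
        refine Subtype.ext ?_
        simp [slU_val, slH_val, u, Matrix.mul_fin_two, Matrix.SpecialLinearGroup.coe_mul]
        linear_combination (-b) * hdet
      rw [e, map_mul, (hφ _).1, hφH] at hg
      have hz : Core.hD F r u ∈ C.US F C.Pos ⊓ D.diagonalSubgroup F := by
        refine ⟨?_, by rw [C.hD_eq_HT]; exact C.HT_mem_diagonal _⟩
        show Core.hD F r u ∈ C.US F C.Pos
        rw [eq_inv_of_mul_eq_one_right hg]
        exact (C.US F C.Pos).inv_mem (C.X_mem_US F hr _)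
      rw [C.US_inf_diagonal, Subgroup.mem_bot] at hz
      have hu : u = 1 := by
        have h1 := hz
        rw [Core.hD, ← C.diag_one F] at h1
        have h2 := congrFun (C.diag_inj F h1) s
        rcases hs with hs | hs <;> simpa [hs] using h2
      rw [hz, mul_one] at hg
      have hab := C.X_eq_one hg
      rw [e, hab, hu]
      refine Subtype.ext ?_
      simp [slU_val, slH_val, Matrix.mul_fin_two, Matrix.one_fin_two, Matrix.SpecialLinearGroup.coe_mul]
    · exfalso
      have e : (⟨!![a, b; c, d], by rw [Matrix.det_fin_two_of]; exact hdet⟩ : SL(2, F)) =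
          slU ((a - 1) / c) * slL c * slU ((d - 1) / c) := by
        refine Subtype.ext ?_
        have hb : b = (a * d - 1) / c := by rw [eq_div_iff hc]; linear_combination -hdet
        subst hb
        simp [slU_val, slL_val, Matrix.mul_fin_two, Matrix.SpecialLinearGroup.coe_mul]
        refine ⟨⟨?_, ?_⟩, ?_⟩ <;> field_simp <;> ring
      rw [e, map_mul, map_mul, (hφ _).1, (hφ _).2, (hφ _).1] at hg
      refine hc (C.X_neg_mem_borel (C.rev_neg hr) ?_)
      have e2 : C.X F r.rev c = (C.X F r ((a - 1) / c))⁻¹ * (C.X F r ((d - 1) / c))⁻¹ := by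
        calc C.X F r.rev c = (C.X F r ((a - 1) / c))⁻¹ * (C.X F r ((a - 1) / c) * C.X F r.rev c *
            C.X F r ((d - 1) / c)) * (C.X F r ((d - 1) / c))⁻¹ := by group
          _ = _ := by rw [hg, mul_one]
      rw [e2]
      exact mul_mem (inv_mem (C.X_mem_borel hr _)) (inv_mem (C.X_mem_borel hr _))
  · have e : (-1 : SL(2, F)) = slH (-1) := by
      refine Subtype.ext ?_
      simp [slH_val, Matrix.one_fin_two, Matrix.SpecialLinearGroup.coe_neg]
    rw [e, hφH]

theorem commute_US {S T : Set (Rt D)}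
    (h : ∀ r ∈ S, ∀ r' ∈ T, ∀ a b : F, Commute (C.X F r a) (C.X F r' b))
    {x y : GL D.Idx F} (hx : x ∈ C.US F S) (hy : y ∈ C.US F T) : Commute x y := by
  induction hx using Subgroup.closure_induction with
  | mem x hx =>
    obtain ⟨r, hr, a, rfl⟩ := hx
    induction hy using Subgroup.closure_induction with
    | mem y hy => obtain ⟨r', hr', b, rfl⟩ := hy; exact h r hr r' hr' a b
    | one => exact Commute.one_right _
    | mul _ _ _ _ ih₁ ih₂ => exact ih₁.mul_right ih₂
    | inv _ _ ih => exact ih.inv_right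
  | one => exact Commute.one_left _
  | mul _ _ _ _ ih₁ ih₂ => exact ih₁.mul_left ih₂
  | inv _ _ ih => exact ih.inv_left

/-- Elements of the groups of two commuting pairs commute. -/
theorem commute_of_comm4 {β γ : Rt D} (h : Comm4 C F β γ) {x y : GL D.Idx F}
    (hx : x ∈ C.US F {β} ⊔ C.US F {β.rev}) (hy : y ∈ C.US F {γ} ⊔ C.US F {γ.rev}) : Commute x y := by
  have hle : ∀ δ : Rt D, C.US F {δ} ⊔ C.US F {δ.rev} ≤ C.US F {δ, δ.rev} := fun δ =>
    sup_le (C.US_mono F (by simp)) (C.US_mono F (by simp))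
  refine commute_US ?_ (hle β hx) (hle γ hy)
  intro r hr r' hr' a b
  rcases hr with rfl | rfl <;> rcases hr' with rfl | rfl
  exacts [(h a b).1, (h a b).2.2.1, (h a b).2.1, (h a b).2.2.2]

end Cfsg.Agent.Lib.OddInvolutions
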