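import Cfsg.Agent.Lib.ChevStructure.NormalForm

/-!
In odd characteristic every involution of a Chevalley group is conjugate to an involution in N.
-/

set_option autoImplicit false
set_option linter.unusedSectionVars false

namespace Cfsg.Agent.Lib.OddInvolutions

open Cfsg.Lie Cfsg.Agent.Lib.ChevStructure
open scoped MatrixGroups Matrix

variable {D : ChevalleyDatum} {C : Core D} (H : CommOK C) {F : Type*} [Field F] [Finite F]

include H in
theorem exists_monomial_conj (hF : Odd (Nat.card F)) {g : GL D.Idx F} (hg : g ∈ D.group F)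
    (h2 : g * g = 1) :
    ∃ x ∈ D.group F, ∃ n ∈ D.monomialSubgroup F, n * n = 1 ∧ x * g * x⁻¹ = n := by
  obtain ⟨σ, b, hb, u, hu, rfl⟩ := H.exists_normalForm hg
  set r := C.rep F σ
  have huP : u ∈ C.US F C.Pos := C.US_mono F (fun _ h => h.1) hu
  obtain ⟨v, hv, k, hk, hub⟩ :=
    C.mem_borel_iff.1 (mul_mem (C.posUS_le_borel huP) hb)
  set m := k * r with hm
  have hmN : m ∈ D.monomialSubgroup F := mul_mem (Subgroup.mem_sup_left hk) (C.rep_mem σ)
  have hma : C.Acts m (σ : Equiv.Perm (Rt D)) := by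
    simpa using C.acts_mul F (C.acts_diagonal hk) (C.acts_rep F σ)
  have hconj : u * (b * r * u) * u⁻¹ = v * m := by
    rw [hm, ← mul_assoc v, ← hub]; group
  have h2' : v * m * (v * m) = 1 := by
    rw [← hconj]
    calc u * (b * r * u) * u⁻¹ * (u * (b * r * u) * u⁻¹) = u * ((b * r * u) * (b * r * u)) * u⁻¹ := by group
      _ = 1 := by rw [h2]; group
  have hinv : m⁻¹ = v * m * v := by
    refine inv_eq_of_mul_eq_one_left ?_
    rw [← h2']; group
  have hmm : m⁻¹ * m⁻¹ ∈ D.diagonalSubgroup F :=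
    H.bruhat_unique hmN (inv_mem hmN) (C.posUS_le_borel hv) (C.posUS_le_borel hv) hinv
  -- v has no component in the roots made negative
  obtain ⟨a, ha, c, hc, rfl⟩ := H.exists_factor
    (A := {x | (σ : Equiv.Perm (Rt D)) x ∈ C.Neg}) (S := {x | (σ : Equiv.Perm (Rt D)) x ∈ C.Pos})
    (fun x _ => (em _).symm.imp_left (C.neg_iff_not_pos _).2) hv
  have hcP : m * c * m⁻¹ ∈ C.US F C.Pos := C.conj_mem_US F hma (fun x hx => hx.1) hc
  have haN : m * a * m⁻¹ ∈ C.US F C.Neg := C.conj_mem_US F hma (fun x hx => hx.1) ha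
  have hvB : m * (a * c) * m⁻¹ ∈ D.borelSubgroup F := by
    have e : m * (a * c) * m⁻¹ = (a * c)⁻¹ * (m⁻¹ * m⁻¹) := by
      rw [hinv]
      calc m * (a * c) * (a * c * m * (a * c))
          = (a * c)⁻¹ * ((a * c * m * (a * c)) * (a * c * m * (a * c))) := by group
        _ = _ := rfl
    rw [e]
    exact mul_mem (inv_mem (C.posUS_le_borel hv)) (C.diagonal_le_borel hmm)
  have ha1 : a = 1 := by
    have h1 : m * a * m⁻¹ ∈ D.borelSubgroup F := by
      have e : m * a * m⁻¹ = m * (a * c) * m⁻¹ * (m * c * m⁻¹)⁻¹ := by group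
      rw [e]; exact mul_mem hvB (inv_mem (C.posUS_le_borel hcP))
    have h3 : m * a * m⁻¹ = 1 := by
      rw [← Subgroup.mem_bot, ← C.borel_inf_negUS]; exact ⟨h1, haN⟩
    rwa [mul_inv_eq_one, mul_eq_left] at h3
  subst ha1
  simp only [one_mul] at hv hconj h2' hinv hvB
  have hm2 : m * m = 1 := by
    have hz : c * (m * c * m⁻¹) ∈ C.US F C.Pos ⊓ D.diagonalSubgroup F := by
      refine ⟨mul_mem hv hcP, ?_⟩
      have e : c * (m * c * m⁻¹) = m⁻¹ * m⁻¹ := by
        conv_rhs => arg 1; rw [hinv]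
        group
      rw [e]; exact hmm
    rw [C.US_inf_diagonal, Subgroup.mem_bot] at hz
    calc m * m = (c * (m * c * m⁻¹)) * (m * m) := by rw [hz, one_mul]
      _ = c * m * (c * m) := by group
      _ = 1 := h2'
  have hmi : m⁻¹ = m := inv_eq_of_mul_eq_one_right hm2
  have hflip : m * c * m⁻¹ = c⁻¹ := by
    rw [hmi]
    refine (inv_eq_of_mul_eq_one_right ?_).symm
    calc c * (m * c * m) = c * m * (c * m) := by group
      _ = 1 := h2'
  -- take a square root of v
  have hodd : Odd (orderOf c) := by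
    have h := orderOf_dvd_natCard (⟨c, hv⟩ : C.US F C.Pos)
    rw [H.card_posUS F, Subgroup.orderOf_mk] at h
    exact (hF.pow).of_dvd_nat h
  obtain ⟨j, hj⟩ := hodd
  set s := c ^ (j + 1) with hs
  have hss : s * s = c := by
    rw [hs, ← pow_add, show j + 1 + (j + 1) = orderOf c + 1 by omega, pow_succ, pow_orderOf_eq_one, one_mul]
  have hsm : m * s * m⁻¹ = s⁻¹ := by rw [hs, ← conj_pow, hflip, inv_pow]
  have hsP : s ∈ C.US F C.Pos := pow_mem hv _
  refine ⟨s⁻¹ * u, mul_mem (inv_mem (C.US_le_group _ hsP)) (C.US_le_group _ huP), m, hmN, hm2, ?_⟩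
  calc s⁻¹ * u * (b * r * u) * (s⁻¹ * u)⁻¹ = s⁻¹ * (u * (b * r * u) * u⁻¹) * s := by group
    _ = s⁻¹ * c * (m * s * m⁻¹) * m := by rw [hconj]; group
    _ = m := by rw [hsm, ← hss]; group

end Cfsg.Agent.Lib.OddInvolutions
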