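import Cfsg.Agent.Lib.OddInvolutions.Reduce
import Cfsg.Agent.Lib.OddInvolutions.ToMonomial
import Mathlib.Data.ZMod.Basic

/-!
Torus involutions as characters Q → {±1}, their conjugation under N, and the reduction of every
involution to one of a list of representatives.
-/

set_option autoImplicit false
set_option linter.unusedSectionVars false

namespace Cfsg.Agent.Lib.OddInvolutions

open Cfsg.Lie Cfsg.Agent.Lib.ChevStructure
open scoped MatrixGroups Matrix

/-- Exponents of a character into {±1}. -/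
abbrev Msk (D : ChevalleyDatum) : Type := Fin D.rank → ZMod 2

variable {D : ChevalleyDatum} (C : Core D)

/-- The value at a root. -/
def par (c : Msk D) (r : Rt D) : ZMod 2 := ∑ m, (C.v r m : ZMod 2) * c m

/-- Precomposition with a permutation. -/
def comp (c : Msk D) (σ : Equiv.Perm (Rt D)) : Msk D := fun m => par C c (σ (C.p m))

theorem par_p (c : Msk D) (m : Fin D.rank) : par C c (C.p m) = c m := by
  rw [par, Finset.sum_eq_single m (fun k _ hk => by simp [C.v_p, hk]) (by simp), C.v_p]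
  simp

theorem par_rev (c : Msk D) (r : Rt D) : par C c r.rev = par C c r := by
  rw [par, par]
  refine Finset.sum_congr rfl fun m _ => ?_
  rw [C.v_rev, Pi.neg_apply, Int.cast_neg, ZMod.neg_eq_self_mod_two]

theorem par_combo (c : Msk D) {q r s : Rt D} {i j : ℤ} (h : C.v q = i • C.v r + j • C.v s) :
    par C c q = i * par C c r + j * par C c s := by
  simp only [par, h, Pi.add_apply, Pi.smul_apply, smul_eq_mul, Int.cast_add, Int.cast_mul, add_mul,
    Finset.sum_add_distrib, Finset.mul_sum, mul_assoc]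

theorem par_comp {σ : Equiv.Perm (Rt D)} (hσ : σ ∈ C.WG) (c : Msk D) (r : Rt D) :
    par C (comp C c σ) r = par C c (σ r) := by
  obtain ⟨L, rfl⟩ := C.mem_WG_iff.1 hσ
  simp only [par, comp, C.pprod_v L r, Int.cast_sum, Int.cast_mul, Finset.sum_mul, Finset.mul_sum]
  rw [Finset.sum_comm]
  exact Finset.sum_congr rfl fun m _ => Finset.sum_congr rfl fun k _ => by ring

theorem comp_comp {σ : Equiv.Perm (Rt D)} (hσ : σ ∈ C.WG) (c : Msk D) (τ : Equiv.Perm (Rt D)) :
    comp C (comp C c σ) τ = comp C c (σ * τ) := funext fun m => par_comp C hσ c (τ (C.p m))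

theorem comp_one (c : Msk D) : comp C c 1 = c := funext fun m => par_p C c m

variable (F : Type*) [Field F]

/-- ±1. -/
def sgn (x : ZMod 2) : Fˣ := if x = 0 then 1 else -1

theorem sgn_add (a b : ZMod 2) : sgn F (a + b) = sgn F a * sgn F b := by
  unfold sgn
  have : ∀ x : ZMod 2, x = 0 ∨ x = 1 := by decide
  rcases this a with rfl | rfl <;> rcases this b with rfl | rfl <;> simp [show (1 : ZMod 2) + 1 = 0 from rfl]

/-- ±1 as a homomorphism. -/
def sgnHom : ZMod 2 →+ Additive Fˣ where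
  toFun x := Additive.ofMul (sgn F x)
  map_zero' := by simp [sgn]
  map_add' a b := by rw [sgn_add]; rfl

theorem sgn_sum {ι : Type*} (s : Finset ι) (k : ι → ℤ) (x : ι → ZMod 2) :
    sgn F (∑ i ∈ s, (k i : ZMod 2) * x i) = ∏ i ∈ s, sgn F (x i) ^ k i := by
  apply Additive.ofMul.injective
  show sgnHom F _ = _
  rw [map_sum, ofMul_prod]
  refine Finset.sum_congr rfl fun i _ => ?_
  rw [← zsmul_eq_mul, map_zsmul, ofMul_zpow]
  rfl

theorem sgn_inj (h2 : (2 : F) ≠ 0) : Function.Injective (sgn F) := by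
  intro a b h
  unfold sgn at h
  have hne : (1 : Fˣ) ≠ -1 := fun e => h2 (by
    have := congrArg Units.val e
    rw [Units.val_one, Units.val_neg, Units.val_one] at this
    linear_combination this)
  have : ∀ x : ZMod 2, x = 0 ∨ x = 1 := by decide
  rcases this a with rfl | rfl <;> rcases this b with rfl | rfl <;> simp_all [eq_comm]

/-- The torus involution of a character. -/
def tinv (c : Msk D) : GL D.Idx F := Core.diag F fun s => sgn F (par C c s)

variable {F}

theorem tinv_inj (h2 : (2 : F) ≠ 0) : Function.Injective (tinv C F) := by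
  intro a b h
  refine funext fun m => ?_
  have := sgn_inj F h2 (congrFun (C.diag_inj F h) (C.p m))
  rwa [par_p, par_p] at this

theorem tinv_zero : tinv C F (0 : Msk D) = 1 := by
  rw [tinv, ← C.diag_one F]
  congr 1
  funext s
  simp [par, sgn]

theorem tinv_mul_self (c : Msk D) : tinv C F c * tinv C F c = 1 := by
  rw [tinv, C.diag_mul, ← C.diag_one F]
  congr 1
  funext s
  rw [Pi.mul_apply, ← sgn_add, CharTwo.add_self_eq_zero]
  simp [sgn]

/-- A lift of a character to the torus. -/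
theorem tinv_eq_HT (c e : Msk D) (h : ∀ m, ∑ j, (A D j (C.p m) : ZMod 2) * e j = c m) :
    tinv C F c = C.HT F fun j => sgn F (e j) := by
  rw [tinv, Core.HT]
  congr 1
  funext s
  rw [← sgn_sum]
  congr 1
  simp only [par, ← h, Finset.mul_sum, C.A_lin _ s, Int.cast_sum, Int.cast_mul, Finset.sum_mul, mul_assoc]
  exact Finset.sum_comm

/-- Conjugation of a torus element by an element of N. -/
theorem conj_HT {g : GL D.Idx F} {σ : Equiv.Perm (Rt D)} (hg : g ∈ D.monomialSubgroup F)
    (ha : C.Acts g σ) (d : Fin D.rank → Fˣ) :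
    g * C.HT F d * g⁻¹ = Core.diag F fun s => C.chA d (σ⁻¹ s) := by
  obtain ⟨d', hd'⟩ := C.mem_diagonal_iff.1 (C.conj_diagonal hg (C.HT_mem_diagonal d))
  rw [hd', Core.HT]
  congr 1
  funext s
  show C.chA d' s = _
  obtain ⟨e, he⟩ := ha (σ⁻¹ s)
  have h1 : C.X F (σ (σ⁻¹ s)) ((C.chA d' (σ (σ⁻¹ s)) : F) * ((e : F) * 1)) =
      C.X F (σ (σ⁻¹ s)) ((e : F) * ((C.chA d (σ⁻¹ s) : F) * 1)) := by
    rw [← C.HT_X_conj, ← hd', ← he, ← he, ← C.HT_X_conj]
    group
  have h2 := X_inj C h1
  simp only [Equiv.Perm.inv_def, Equiv.apply_symm_apply, mul_one] at h2 ⊢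
  apply Units.ext
  exact mul_left_cancel₀ e.ne_zero (by linear_combination h2)

theorem conj_tinv {g : GL D.Idx F} {σ : Equiv.Perm (Rt D)} (hg : g ∈ D.monomialSubgroup F)
    (ha : C.Acts g σ) {c : Msk D} (hc : tinv C F c ∈ D.diagonalSubgroup F) :
    g * tinv C F c * g⁻¹ = tinv C F (comp C c σ⁻¹) := by
  obtain ⟨τ, hτ, hτa⟩ := C.exists_acts hg
  have hσ : σ ∈ C.WG := by rwa [C.acts_unique F ha hτa]
  obtain ⟨d, hd⟩ := C.mem_diagonal_iff.1 hc
  rw [hd, conj_HT C hg ha, tinv]
  congr 1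
  funext s
  rw [par_comp C (inv_mem hσ)]
  rw [tinv, Core.HT] at hd
  exact (congrFun (C.diag_inj F hd) (σ⁻¹ s)).symm

variable {C} (H : CommOK C) (K : RootOK C)
include H K

/-- Every involution is conjugate to a representative. -/
theorem exists_conj_rep [Fintype F] [DecidableEq F] (hF : Odd (Fintype.card F)) (reps : List (Msk D))
    (hcov : ∀ c : Msk D, c ≠ 0 → ∃ r ∈ reps, ∃ σ ∈ C.WG, comp C r σ = c)
    {g : GL D.Idx F} (hg : g ∈ D.group F) (h2 : g * g = 1) (h1 : g ≠ 1) :
    ∃ r ∈ reps, ∃ x ∈ D.group F, x * g * x⁻¹ = tinv C F r := by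
  have hchar : ringChar F ≠ 2 := fun h => by
    have := FiniteField.even_card_of_char_two h
    exact Nat.not_even_iff_odd.2 hF (Nat.even_iff.2 this)
  have two : (2 : F) ≠ 0 := Ring.two_ne_zero hchar
  obtain ⟨x, hx, n, hn, hn2, hxn⟩ := exists_monomial_conj H (by rwa [Nat.card_eq_fintype_card]) hg h2
  obtain ⟨y, hy, hyn⟩ := exists_diagonal_conj H K hchar hn hn2
  obtain ⟨d, hd⟩ := C.mem_diagonal_iff.1 hyn
  have hd2 : C.HT F d * C.HT F d = 1 := by
    rw [← hd]
    calc y * n * y⁻¹ * (y * n * y⁻¹) = y * (n * n) * y⁻¹ := by group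
      _ = 1 := by rw [hn2, mul_one, mul_inv_cancel]
  let c : Msk D := fun m => if C.chA d (C.p m) = 1 then 0 else 1
  have hpm : ∀ m, C.chA d (C.p m) = sgn F (c m) := by
    intro m
    rw [Core.HT, C.diag_mul, ← C.diag_one F] at hd2
    have h := congrFun (C.diag_inj F hd2) (C.p m)
    have hcases : C.chA d (C.p m) = 1 ∨ C.chA d (C.p m) = -1 := by
      have hh : (C.chA d (C.p m) : F) * (C.chA d (C.p m) : F) = 1 := by
        rw [← Units.val_mul, ← Units.val_one]
        exact congrArg Units.val h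
      rcases mul_self_eq_one_iff.1 hh with e | e
      · exact Or.inl (Units.ext e)
      · exact Or.inr (Units.ext (by simpa using e))
    simp only [c]
    split_ifs with e
    · simp [sgn, e]
    · rw [hcases.resolve_left e]; simp [sgn]
  have hdc : C.HT F d = tinv C F c := by
    rw [tinv, Core.HT]
    congr 1
    funext s
    show C.chA d s = _
    rw [← C.chr_chA F d s, Core.chr, par, sgn_sum]
    exact Finset.prod_congr rfl fun m _ => by rw [hpm]
  have hc0 : c ≠ 0 := by
    intro h0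
    apply h1
    have e : y * x * g * (y * x)⁻¹ = 1 := by
      calc y * x * g * (y * x)⁻¹ = y * (x * g * x⁻¹) * y⁻¹ := by group
        _ = 1 := by rw [hxn, hd, hdc, h0, tinv_zero]
    rwa [mul_inv_eq_one, mul_eq_left] at e
  obtain ⟨r, hr, σ, hσ, hrc⟩ := hcov c hc0
  refine ⟨r, hr, C.rep F ⟨σ, hσ⟩ * y * x,
    mul_mem (mul_mem (C.monomial_le_group (C.rep_mem _)) hy) hx, ?_⟩
  calc C.rep F ⟨σ, hσ⟩ * y * x * g * (C.rep F ⟨σ, hσ⟩ * y * x)⁻¹
      = C.rep F ⟨σ, hσ⟩ * (y * (x * g * x⁻¹) * y⁻¹) * (C.rep F ⟨σ, hσ⟩)⁻¹ := by group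
    _ = tinv C F r := by
      rw [hxn, hd, hdc, conj_tinv C (C.rep_mem _) (C.acts_rep F _) (hdc ▸ C.HT_mem_diagonal d),
        ← hrc, comp_comp C hσ, mul_inv_cancel, comp_one]

end Cfsg.Agent.Lib.OddInvolutions
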